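import Mathlib
import Cfsg.Agent.Lib.ClassSizesThree.Basic
import Cfsg.Agent.S0563
import Cfsg.Agent.S4037

/-!
General facts on centralisers, Sylow subgroups and class sizes, for the groups with at most four
class sizes.
-/

set_option autoImplicit false
set_option linter.unusedSectionVars false
set_option linter.style.haveILetI false

open scoped Pointwise

namespace CfsgLib.ClassSizesFour

open CfsgLib.ClassSizesThree (C mem_C self_mem_C mem_C_symm C_le_of_mem_zpowers C_mul IsPEl
  isPEl_of_isPGroup C_conj)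

variable {G : Type*} [Group G] [Finite G]

theorem eq_of_le_of_index {H K : Subgroup G} (h : H ≤ K) (hi : H.index = K.index) : H = K := by
  refine Subgroup.eq_of_le_of_card_ge h (le_of_eq ?_)
  have h1 := H.card_mul_index
  have h2 := K.card_mul_index
  rw [hi, ← h2] at h1
  exact (Nat.eq_of_mul_eq_mul_right (Nat.pos_of_ne_zero Subgroup.index_ne_zero_of_finite) h1).symm

theorem index_C_eq_one_iff {x : G} : (C x).index = 1 ↔ x ∈ Subgroup.center G :=
  Subgroup.index_eq_one.trans CfsgLib.ClassSizesThree.C_eq_top_iff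

theorem index_C_conj (g x : G) : (C (g * x * g⁻¹)).index = (C x).index := by
  rw [C_conj]
  exact Subgroup.index_map_equiv (C x) (MulAut.conj g)

theorem index_C_dvd_of_zpowers {x y : G} (hy : y ∈ Subgroup.zpowers x) :
    (C y).index ∣ (C x).index :=
  Subgroup.index_dvd_of_le (C_le_of_mem_zpowers hy)

/-- The class size of a product of commuting elements of coprime orders is a common multiple. -/
theorem index_C_mul {x y : G} (hc : Commute x y) (ho : (orderOf x).Coprime (orderOf y)) :
    (C x).index ∣ (C (x * y)).index ∧ (C y).index ∣ (C (x * y)).index := by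
  rw [C_mul hc ho]
  exact ⟨Subgroup.index_dvd_of_le inf_le_left, Subgroup.index_dvd_of_le inf_le_right⟩

theorem coprime_of_ne {p q : ℕ} (hp : p.Prime) (hq : q.Prime) (hne : p ≠ q) {x y : G}
    (hx : IsPEl p x) (hy : IsPEl q y) : (orderOf x).Coprime (orderOf y) :=
  haveI := Fact.mk hp; haveI := Fact.mk hq; IsPEl.coprime hne hx hy

theorem pEl_prime_unique {p q : ℕ} (hp : p.Prime) (hq : q.Prime) {x : G} (hx : IsPEl p x)
    (hy : IsPEl q x) (h1 : x ≠ 1) : p = q := by
  by_contra hne
  have := coprime_of_ne hp hq hne hx hy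
  rw [Nat.coprime_self, orderOf_eq_one_iff] at this
  exact h1 this

theorem mul_ne_one_of_coprime {x y : G} (ho : (orderOf x).Coprime (orderOf y)) (hx : x ≠ 1) :
    x * y ≠ 1 := by
  intro h
  rw [mul_eq_one_iff_eq_inv] at h
  rw [h, orderOf_inv, Nat.coprime_self, orderOf_eq_one_iff] at ho
  exact hx (by rw [h, ho, inv_one])

/-- A subgroup containing the prime power parts of `g` contains `g`. -/
theorem mem_of_parts {g : G} {S : Subgroup G}
    (h : ∀ y ∈ Subgroup.zpowers g, ∀ p : ℕ, p.Prime → IsPEl p y → y ∈ S) : g ∈ S :=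
  CfsgLib.CentMaxNormal.mem_of_prime_power_parts fun y hy r k hr hk => h y hy r hr ⟨k, hk⟩

/-- A non-identity element has a prime power part which is not the identity. -/
theorem exists_part {g : G} (hg : g ≠ 1) :
    ∃ (p : ℕ) (y : G), p.Prime ∧ y ∈ Subgroup.zpowers g ∧ IsPEl p y ∧ y ≠ 1 := by
  by_contra hcon
  push Not at hcon
  exact hg (Subgroup.mem_bot.mp (mem_of_parts (S := ⊥) fun y hy p hp hy' =>
    Subgroup.mem_bot.mpr (hcon p y hp hy hy')))

section Sylow

variable {p : ℕ} [hp : Fact p.Prime]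

theorem exists_sylow_le {H : Subgroup G} (h : ¬ p ∣ H.index) :
    ∃ P : Sylow p G, (P : Subgroup G) ≤ H := by
  obtain ⟨S⟩ : Nonempty (Sylow p H) := inferInstance
  have hm : IsPGroup p ((S : Subgroup H).map H.subtype) := S.2.map _
  have hidx : ¬ p ∣ ((S : Subgroup H).map H.subtype).index := by
    rw [Subgroup.index_map_subtype]
    exact fun hd => (hp.out.dvd_mul.mp hd).elim S.not_dvd_index h
  exact ⟨hm.toSylow hidx, by
    rw [IsPGroup.toSylow_coe]
    exact Subgroup.map_subtype_le _⟩

/-- A `p`-element centralising a Sylow `p`-subgroup lies in it. -/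
theorem mem_sylow_of_commute (P : Sylow p G) {u : G} (hu : IsPEl p u)
    (hc : ∀ y ∈ (P : Subgroup G), Commute u y) : u ∈ (P : Subgroup G) := by
  have hn : Subgroup.zpowers u ≤ Subgroup.normalizer ((P : Subgroup G) : Set G) :=
    (Subgroup.zpowers_le.mpr
      (Subgroup.mem_centralizer_iff.mpr fun y hy => (hc y hy).symm.eq)).trans
      (Subgroup.centralizer_le_normalizer _)
  have h := P.is_maximal' (IsPGroup.to_sup_of_normal_right' hu.isPGroup P.2 hn) le_sup_right
  rw [← h]
  exact Subgroup.mem_sup_left (Subgroup.mem_zpowers u)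

/-- A `p`-element with class size prime to `p` lies centrally in a Sylow `p`-subgroup. -/
theorem exists_sylow_central {u : G} (hu : IsPEl p u) (h : ¬ p ∣ (C u).index) :
    ∃ P : Sylow p G, u ∈ (P : Subgroup G) ∧ (P : Subgroup G) ≤ C u := by
  obtain ⟨P, hP⟩ := exists_sylow_le h
  exact ⟨P, mem_sylow_of_commute P hu fun y hy => (mem_C.mp (hP hy)).symm, hP⟩

/-- Such an element has a conjugate central in any given Sylow `p`-subgroup. -/
theorem exists_conj_central {u : G} (hu : IsPEl p u) (h : ¬ p ∣ (C u).index) (P : Sylow p G) :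
    ∃ g : G, g * u * g⁻¹ ∈ (P : Subgroup G) ∧ (P : Subgroup G) ≤ C (g * u * g⁻¹) := by
  obtain ⟨Q, hQ, hQC⟩ := exists_sylow_central hu h
  obtain ⟨g, hg⟩ := MulAction.exists_smul_eq G Q P
  have he : (P : Subgroup G) = (Q : Subgroup G).map (MulAut.conj g).toMonoidHom := by
    rw [← hg, Sylow.coe_subgroup_smul]
    rfl
  refine ⟨g, ?_, ?_⟩
  · rw [he]
    exact Subgroup.mem_map_of_mem _ hQ
  · rw [he, C_conj]
    exact Subgroup.map_mono hQC

theorem exists_center_sylow (hd : p ∣ Nat.card G) (P : Sylow p G) :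
    ∃ u : G, u ≠ 1 ∧ IsPEl p u ∧ u ∈ (P : Subgroup G) ∧ (P : Subgroup G) ≤ C u ∧
      ¬ p ∣ (C u).index := by
  haveI : Nontrivial (P : Subgroup G) :=
    (Subgroup.nontrivial_iff_ne_bot _).mpr (P.ne_bot_of_dvd_card hd)
  haveI := P.2.center_nontrivial
  obtain ⟨⟨u, hu⟩, hne⟩ := exists_ne (1 : Subgroup.center (P : Subgroup G))
  have hP : (P : Subgroup G) ≤ C (u : G) := fun y hy =>
    mem_C.mpr (congrArg Subtype.val (Subgroup.mem_center_iff.mp hu ⟨y, hy⟩))
  exact ⟨u, fun e => hne (Subtype.ext (Subtype.ext e)), isPEl_of_isPGroup P.2 u.2, u.2, hP,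
    fun hd' => P.not_dvd_index (hd'.trans (Subgroup.index_dvd_of_le hP))⟩

/-- Every `p`-element lies in a Sylow subgroup. -/
theorem exists_sylow_mem {u : G} (hu : IsPEl p u) : ∃ P : Sylow p G, u ∈ (P : Subgroup G) := by
  obtain ⟨P, hP⟩ := hu.isPGroup.exists_le_sylow
  exact ⟨P, hP (Subgroup.mem_zpowers u)⟩

/-- A subgroup without non-trivial `p`-elements has order prime to `p`. -/
theorem not_dvd_card {H : Subgroup G} (h : ∀ v ∈ H, IsPEl p v → v = 1) : ¬ p ∣ Nat.card H := by
  intro hd
  obtain ⟨⟨v, hv⟩, ho⟩ := exists_prime_orderOf_dvd_card' p hd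
  rw [Subgroup.orderOf_mk] at ho
  have := h v hv ⟨1, by rw [ho, pow_one]⟩
  rw [this, orderOf_one] at ho
  exact hp.out.ne_one ho.symm

theorem factorization_index_of_not_dvd {H : Subgroup G} (h : ¬ p ∣ Nat.card H) :
    H.index.factorization p = (Nat.card G).factorization p := by
  rw [← H.card_mul_index, Nat.factorization_mul Nat.card_pos.ne' Subgroup.index_ne_zero_of_finite,
    Finsupp.add_apply, Nat.factorization_eq_zero_of_not_dvd h, zero_add]

/-- A Sylow subgroup centralised, up to conjugation, by every element is central. -/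
theorem sylow_le_center (P : Sylow p G)
    (h : ∀ g : G, ∃ Q : Sylow p G, (Q : Subgroup G) ≤ C g) :
    (P : Subgroup G) ≤ Subgroup.center G := by
  have hall : ∀ g : G, ∃ x : G, x⁻¹ * g * x ∈ Subgroup.centralizer ((P : Subgroup G) : Set G) := by
    intro g
    obtain ⟨Q, hQ⟩ := h g
    obtain ⟨x, hx⟩ := MulAction.exists_smul_eq G P Q
    refine ⟨x, Subgroup.mem_centralizer_iff.mpr fun y hy => ?_⟩
    have hyQ : x * y * x⁻¹ ∈ (Q : Subgroup G) := by
      rw [← hx, Sylow.coe_subgroup_smul]
      exact Subgroup.smul_mem_pointwise_smul y (MulAut.conj x) _ hy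
    have hc := (mem_C.mp (hQ hyQ)).eq
    calc y * (x⁻¹ * g * x) = x⁻¹ * (x * y * x⁻¹ * g) * x := by group
      _ = x⁻¹ * (g * (x * y * x⁻¹)) * x := by rw [hc]
      _ = x⁻¹ * g * x * y := by group
  have htop := CfsgLib.TwoClassSizes.eq_top_of_conj_cover hall
  intro y hy
  rw [Subgroup.mem_center_iff]
  exact fun g => ((Subgroup.mem_centralizer_iff.mp (htop ▸ Subgroup.mem_top g)) y hy).symm

end Sylow

/-- A subgroup with all elements of other prime power orders central is nilpotent. -/
theorem isNilpotent_of_central {H : Subgroup G} {p : ℕ} (hp : p.Prime)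
    (h : ∀ q : ℕ, q.Prime → q ≠ p → ∀ v ∈ H, IsPEl q v → ∀ w ∈ H, Commute v w) :
    Group.IsNilpotent H := by
  haveI := Fact.mk hp
  refine Group.of_quotient_center_nilpotent ?_
  refine (IsPGroup.of_card (p := p)
    (n := (Subgroup.center H).index.primeFactorsList.length) ?_).isNilpotent
  rw [← Subgroup.index_eq_card]
  refine Nat.eq_prime_pow_of_unique_prime_dvd Subgroup.index_ne_zero_of_finite fun {q} hq hd => ?_
  by_contra hne
  haveI := Fact.mk hq
  obtain ⟨Q⟩ : Nonempty (Sylow q H) := inferInstance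
  refine Q.not_dvd_index (hd.trans (Subgroup.index_dvd_of_le fun v hv => ?_))
  rw [Subgroup.mem_center_iff]
  intro w
  obtain ⟨j, hj⟩ := isPEl_of_isPGroup Q.2 hv
  exact Subtype.ext (h q hq hne v v.2 ⟨j, by rw [Subgroup.orderOf_coe, hj]⟩ w w.2).symm.eq

/-- Kegel–Wielandt for subgroups of coprime orders. -/
theorem isSolvable_of_card_mul (A B : Subgroup G) (hA : Group.IsNilpotent A)
    (hB : Group.IsNilpotent B) (hcop : (Nat.card A).Coprime (Nat.card B))
    (hc : Nat.card A * Nat.card B = Nat.card G) : Group.IsSolvable G := by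
  have h := Subgroup.isComplement'_of_coprime hc hcop
  exact (Cfsg.Agent.S0563.result A B hA hB hcop fun g => by
    obtain ⟨⟨a, b⟩, hab⟩ := h.2 g
    exact ⟨a, a.2, b, b.2, hab.symm⟩).1

theorem isSolvable_sup {K N : Subgroup G} [K.Normal] (hK : Group.IsSolvable K)
    (hN : Group.IsSolvable N) : Group.IsSolvable (K ⊔ N : Subgroup G) := by
  let φ : (K ⊔ N : Subgroup G) →* G ⧸ K := (QuotientGroup.mk' K).comp (K ⊔ N).subtype
  haveI : Group.IsSolvable (N.map (QuotientGroup.mk' K)) :=
    Group.isSolvable_of_surjective ((QuotientGroup.mk' K).subgroupMap_surjective N)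
  let ψ : (K ⊔ N : Subgroup G) →* N.map (QuotientGroup.mk' K) := φ.codRestrict _ fun x => by
    have hx : (QuotientGroup.mk' K) (x : G) ∈ (K ⊔ N).map (QuotientGroup.mk' K) :=
      Subgroup.mem_map_of_mem _ x.2
    rw [Subgroup.map_sup, QuotientGroup.map_mk'_self, bot_sup_eq] at hx
    exact hx
  haveI := hK
  refine Group.isSolvable_of_ker_le_range (Subgroup.inclusion (le_sup_left : K ≤ K ⊔ N)) ψ
    fun x hx => ?_
  exact ⟨⟨x, (QuotientGroup.eq_one_iff _).mp (congrArg Subtype.val hx)⟩, Subtype.ext rfl⟩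

/-- All classes of prime power elements of orders prime to `p` of `p`-power size: solvable. -/
theorem isSolvable_of_pow_index {p : ℕ} (hp : p.Prime)
    (h : ∀ r : ℕ, r.Prime → r ≠ p → ∀ x : G, IsPEl r x → ∃ j : ℕ, (C x).index = p ^ j) :
    Group.IsSolvable G := by
  classical
  haveI := Fact.mk hp
  obtain ⟨K, ⟨hKn, hKs⟩, hmax⟩ := Set.Finite.exists_maximal
    (s := {N : Subgroup G | N.Normal ∧ Group.IsSolvable N}) (Set.toFinite _)
    ⟨⊥, inferInstance, inferInstance⟩
  haveI := hKn
  haveI := hKs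
  haveI : Group.IsSolvable (G ⧸ K) := by
    refine (fun h' => haveI := IsPGroup.isNilpotent h'; inferInstance :
      IsPGroup p (G ⧸ K) → Group.IsSolvable (G ⧸ K)) (IsPGroup.of_card (p := p)
      (n := K.index.primeFactorsList.length) ?_)
    rw [← Subgroup.index_eq_card]
    refine Nat.eq_prime_pow_of_unique_prime_dvd Subgroup.index_ne_zero_of_finite fun {r} hr hd => ?_
    by_contra hne
    haveI := Fact.mk hr
    obtain ⟨R⟩ : Nonempty (Sylow r G) := inferInstance
    refine R.not_dvd_index (hd.trans (Subgroup.index_dvd_of_le fun x hx => ?_))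
    obtain ⟨j, hj⟩ := h r hr hne x (isPEl_of_isPGroup R.2 hx)
    have hcl : (ConjClasses.mk x).carrier.ncard = p ^ j := by
      rw [← hj, CfsgLib.Blocks.index_centralizer_eq_card, ← Nat.card_coe_set_eq]
      exact Nat.card_congr (Equiv.subtypeEquivRight fun u => by
        rw [ConjClasses.mem_carrier_iff_mk_eq, ConjClasses.mk_eq_mk_iff_isConj]
        exact isConj_comm)
    have hs := Cfsg.Agent.S4037.result x hp j hcl
    exact hmax ⟨inferInstance, isSolvable_sup hKs hs⟩ le_sup_left
      (Subgroup.mem_sup_right (Subgroup.subset_normalClosure rfl))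
  exact Group.isSolvable_of_ker_le_range K.subtype (QuotientGroup.mk' K)
    (by rw [QuotientGroup.ker_mk', Subgroup.range_subtype])

end CfsgLib.ClassSizesFour
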