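import Cfsg.Agent.Lib.ClassSizesFour.Triple

/-!
Class sizes `1, a, b, c` with `a ∣ b` and `c ∤ b`: the elements of class size `c` are exactly those
of orders built from the primes of `a`.
-/

set_option autoImplicit false
set_option linter.unusedSectionVars false
set_option linter.style.haveILetI false

namespace CfsgLib.ClassSizesFour

open CfsgLib.ClassSizesThree (C mem_C self_mem_C mem_C_symm C_le_of_mem_zpowers C_mul IsPEl
  isPEl_of_isPGroup C_conj)

variable {G : Type*} [Group G] [Finite G] {a b c : ℕ}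

theorem dvd_of_factorization {m n : ℕ} (hm : m ≠ 0) (hn : n ≠ 0)
    (h : ∀ p : ℕ, p.Prime → p ∣ m → m.factorization p ≤ n.factorization p) : m ∣ n := by
  rw [← Nat.factorization_le_iff_dvd hm hn]
  intro p
  by_cases hp : p.Prime ∧ p ∣ m
  · exact h p hp.1 hp.2
  · rw [Nat.factorization_eq_zero_iff m p |>.mpr (by tauto)]
    exact Nat.zero_le _

namespace Triple

variable (T : Triple G a b c) (hcb : ¬ c ∣ b)
include T hcb

theorem not_commute {p q : ℕ} (hp : p.Prime) (hq : q.Prime) (hne : p ≠ q) {x z : G}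
    (hx : IsPEl p x) (hz : IsPEl q z) (hxa : (C x).index = a ∨ (C x).index = b)
    (hzc : (C z).index = c) : ¬ Commute x z := by
  rcases hxa with hxa | hxb
  · exact T.nc hp hq hne hx hz hxa hzc
  · intro hc
    obtain ⟨-, h1, h2, hs⟩ := T.mul_size hp hq hne hx hz (T.ne_one T.hb hxb) hc
    rw [hxb] at h1
    rw [hzc] at h2
    rcases hs with e | e | e
    · exact T.ca (e ▸ h2)
    · exact hcb (e ▸ h2)
    · exact T.bc (e ▸ h1)

theorem eq_of_c {p q : ℕ} (hp : p.Prime) (hq : q.Prime) (hne : p ≠ q) {z w : G}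
    (hz : IsPEl p z) (hw : IsPEl q w) (hzc : (C z).index = c) (hw1 : w ≠ 1) (hc : Commute z w) :
    (C w).index = c ∧ C z = C w := by
  have hwc : (C w).index = c := by
    rcases T.size w hw1 with e | e | e
    · exact absurd hc.symm (T.not_commute hcb hq hp hne.symm hw hz (Or.inl e) hzc)
    · exact absurd hc.symm (T.not_commute hcb hq hp hne.symm hw hz (Or.inr e) hzc)
    · exact e
  obtain ⟨he, h1, -, hs⟩ := T.mul_size hp hq hne hz hw (T.ne_one T.hc hzc) hc
  rw [hzc] at h1
  refine ⟨hwc, ?_⟩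
  rcases hs with e | e | e
  · exact absurd (e ▸ h1) T.ca
  · exact absurd (e ▸ h1) hcb
  · rw [← eq_of_le_of_index (he.le.trans inf_le_left) (e.trans hzc.symm),
      ← eq_of_le_of_index (he.le.trans inf_le_right) (e.trans hwc.symm)]

/-- The centraliser of a prime power element of class size `c` is nilpotent. -/
theorem nilpotent_c {p : ℕ} (hp : p.Prime) {z : G} (hz : IsPEl p z) (hzc : (C z).index = c) :
    Group.IsNilpotent (C z) := by
  refine isNilpotent_of_central hp fun q hq hne v hv hvq w hw => ?_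
  by_cases hv1 : v = 1
  · rw [hv1]; exact Commute.one_left w
  have := (T.eq_of_c hcb hp hq hne.symm hz hvq hzc hv1 (mem_C.mp hv).symm).2
  exact (mem_C.mp (this ▸ hw : w ∈ C v)).symm

theorem cover_one {p : ℕ} (hp : p.Prime) (hd : p ∣ Nat.card G) : p ∣ a ∨ p ∣ c := by
  by_contra hno
  push Not at hno
  haveI := Fact.mk hp
  obtain ⟨P⟩ : Nonempty (Sylow p G) := inferInstance
  obtain ⟨u, hu1, hup, huP, hPu, hun⟩ := exists_center_sylow hd P
  obtain ⟨r, hr, hra⟩ := Nat.exists_prime_and_dvd (show a ≠ 1 by linarith [T.ha])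
  haveI := Fact.mk hr
  have hrp : r ≠ p := fun e => hno.1 (e ▸ hra)
  by_cases huc : (C u).index = c
  · obtain ⟨q, x, hq, hx, hxa⟩ := T.exists_a
    have hqp : q = p := by
      by_contra hqp
      obtain ⟨P', hP'⟩ := exists_sylow_le (p := p) (H := C x) (hxa ▸ hno.1)
      obtain ⟨g, hgP, -⟩ := exists_conj_central hup hun P'
      exact T.nc hq hp hqp hx (hup.conj g) hxa ((index_C_conj g u).trans huc)
        (mem_C.mp (hP' hgP)).symm
    subst hqp
    obtain ⟨g, hgP, -⟩ := exists_conj_central hx (hxa ▸ hno.1) P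
    obtain ⟨Q, hQ⟩ := exists_sylow_le (p := r) (H := C u) (huc ▸ fun h => T.not_both hr hra h)
    obtain ⟨v, hv1, hvr, hvQ, -, -⟩ := exists_center_sylow (T.dvd_card_a hra) Q
    obtain ⟨hvc, heq⟩ := T.eq_of_c hcb hp hr hrp.symm hup hvr huc hv1 (mem_C.mp (hQ hvQ)).symm
    exact T.nc hp hr hrp.symm (hx.conj g) hvr ((index_C_conj g x).trans hxa) hvc
      (mem_C.mp (heq ▸ hPu hgP))
  · have huab : (C u).index = a ∨ (C u).index = b := by
      have := T.size u hu1
      tauto
    obtain ⟨R⟩ : Nonempty (Sylow r G) := inferInstance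
    obtain ⟨v, hv1, hvr, -, -, hvn⟩ := exists_center_sylow (T.dvd_card_a hra) R
    have hvc := T.index_center_a hr hra hv1 hvn
    obtain ⟨P', hP'⟩ := exists_sylow_le (p := p) (H := C v) (hvc ▸ hno.2)
    obtain ⟨g, hgP, -⟩ := exists_conj_central hup hun P'
    exact T.not_commute hcb hp hr hrp.symm (hup.conj g) hvr
      ((index_C_conj g u).symm ▸ huab) hvc (mem_C.mp (hP' hgP))

/-- A central element of a Sylow subgroup for a prime dividing `c` has class size `a` or `b`. -/
theorem index_center_c {r : ℕ} (hrc : r ∣ c) {u : G} (hu : u ≠ 1)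
    (hn : ¬ r ∣ (C u).index) : (C u).index = a ∨ (C u).index = b := by
  rcases T.size u hu with e | e | e
  · exact Or.inl e
  · exact Or.inr e
  · exact absurd (e ▸ hrc) hn

theorem index_ne_one {r : ℕ} (hr : r.Prime) (hrc : r ∣ c) {w : G} (hw : IsPEl r w) :
    (C w).index ≠ c := by
  intro hwc
  haveI := Fact.mk hr
  obtain ⟨q, hq, hqa⟩ := Nat.exists_prime_and_dvd (show a ≠ 1 by linarith [T.ha])
  haveI := Fact.mk hq
  have hqr : q ≠ r := fun e => T.not_both hq hqa (e ▸ hrc)
  obtain ⟨Q, hQ⟩ := exists_sylow_le (p := q) (H := C w) (hwc ▸ fun h => T.not_both hq hqa h)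
  obtain ⟨z, hz1, hzq, hzQ, -, -⟩ := exists_center_sylow (T.dvd_card_a hqa) Q
  obtain ⟨hzc, heq⟩ := T.eq_of_c hcb hr hq hqr.symm hw hzq hwc hz1 (mem_C.mp (hQ hzQ)).symm
  obtain ⟨R, hwR⟩ := exists_sylow_mem hw
  obtain ⟨x, hx1, hxr, -, hRx, hxn⟩ := exists_center_sylow (T.dvd_card_c hrc) R
  exact T.not_commute hcb hr hq hqr.symm hxr hzq (T.index_center_c hcb hrc hx1 hxn) hzc
    (mem_C.mp (heq ▸ mem_C_symm (hRx hwR)))

/-- For `r ∣ c`, an `r`-element has class size `a` or `b`. -/
theorem index_c_prime {r : ℕ} (hr : r.Prime) (hrc : r ∣ c) {w : G} (hw : IsPEl r w) (hw1 : w ≠ 1) :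
    (C w).index = a ∨ (C w).index = b := by
  have := T.size w hw1
  have := T.index_ne_one hcb hr hrc hw
  tauto

theorem factorization_c {r : ℕ} (hr : r.Prime) (hrc : r ∣ c) :
    c.factorization r = (Nat.card G).factorization r := by
  haveI := Fact.mk hr
  obtain ⟨q, z, hq, hz, hzc⟩ := T.exists_c
  have hqr : q ≠ r := fun e => T.index_ne_one hcb hq (e ▸ hrc) hz hzc
  rw [← hzc]
  refine factorization_index_of_not_dvd (not_dvd_card fun w hw hwr => ?_)
  by_contra hw1
  exact T.not_commute hcb hr hq hqr.symm hwr hz (T.index_c_prime hcb hr hrc hwr hw1) hzc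
    (mem_C.mp hw)

variable (hns : ¬ Group.IsSolvable G)
include hns

/-- For `q ∣ a`, a `q`-element has class size `c`. -/
theorem index_a_prime {q : ℕ} (hq : q.Prime) (hqa : q ∣ a) {v : G} (hv : IsPEl q v) (hv1 : v ≠ 1) :
    (C v).index = c := by
  haveI := Fact.mk hq
  obtain ⟨Q, hvQ⟩ := exists_sylow_mem hv
  obtain ⟨z, hz1, hzq, -, hQz, hzn⟩ := exists_center_sylow (T.dvd_card_a hqa) Q
  have hzc := T.index_center_a hq hqa hz1 hzn
  have hzv : z ∈ C v := mem_C_symm (hQz hvQ)
  have hne : ∀ r : ℕ, r ∣ c → r ≠ q := fun r hrc e => T.not_both hq hqa (e ▸ hrc)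
  rcases T.size v hv1 with hva | hvb | hvc
  · have hrb : ∀ r : ℕ, r.Prime → r ∣ c → ¬ r ∣ b := by
      intro r hr hrc hrb
      haveI := Fact.mk hr
      obtain ⟨R, hR⟩ := exists_sylow_le (p := r) (H := C v) (hva ▸ fun h => T.not_both hr h hrc)
      obtain ⟨u, hu1, hur, huR, hRu, hun⟩ := exists_center_sylow (T.dvd_card_c hrc) R
      rcases T.index_center_c hcb hrc hu1 hun with hua | hub
      · obtain ⟨he, h1, -, hs⟩ :=
          T.mul_size hq hr (hne r hrc).symm hv hur hv1 (mem_C.mp (hR huR)).symm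
        rw [hva] at h1
        rcases hs with e | e | e
        · have heq : C v = C u := by
            rw [← eq_of_le_of_index (he.le.trans inf_le_left) (e.trans hva.symm),
              ← eq_of_le_of_index (he.le.trans inf_le_right) (e.trans hua.symm)]
          exact T.nc hr hq (hne r hrc) hur hzq hua hzc (mem_C.mp (heq ▸ hzv)).symm
        · have hle : (R : Subgroup G) ≤ C (v * u) := he ▸ le_inf hR hRu
          exact R.not_dvd_index (hrb.trans (e ▸ Subgroup.index_dvd_of_le hle))
        · exact T.ac (e ▸ h1)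
      · exact hun (hub ▸ hrb)
    have honly : ∀ p : ℕ, p.Prime → p ∣ a → p = q := by
      intro p hp hpa
      by_contra hpq
      haveI := Fact.mk hp
      obtain ⟨P, hP⟩ := exists_sylow_le (p := p) (H := C z) (hzc ▸ fun h => T.not_both hp hpa h)
      obtain ⟨w, hw1, hwp, hwP, -, -⟩ := exists_center_sylow (T.dvd_card_a hpa) P
      obtain ⟨hwc, heq⟩ := T.eq_of_c hcb hq hp (Ne.symm hpq) hzq hwp hzc hw1
        (mem_C.mp (hP hwP)).symm
      exact T.nc hq hp (Ne.symm hpq) hv hwp hva hwc (mem_C.mp (heq ▸ hQz hvQ))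
    have honlyb : ∀ p : ℕ, p.Prime → p ∣ b → p = q := by
      intro p hp hpb
      obtain ⟨g, hg⟩ := T.exb
      rcases T.cover_one hcb hp (hpb.trans (hg ▸ Subgroup.index_dvd_card _)) with h | h
      · exact honly p hp h
      · exact absurd hpb (hrb p hp h)
    refine absurd (isSolvable_of_pow_index hq fun r hr hrq x hx => ?_) hns
    by_cases hx1 : x = 1
    · exact ⟨0, by rw [pow_zero, index_C_eq_one_iff, hx1]; exact one_mem _⟩
    haveI := Fact.mk hr
    have hrd : r ∣ Nat.card G := by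
      obtain ⟨j, hj⟩ := hx
      have hj0 : j ≠ 0 := fun e => hx1 (orderOf_eq_one_iff.mp (by rw [hj, e, pow_zero]))
      exact (dvd_pow_self r hj0).trans (hj ▸ orderOf_dvd_natCard x)
    have hrc : r ∣ c := (T.cover_one hcb hr hrd).resolve_left fun h => hrq (honly r hr h)
    rcases T.index_c_prime hcb hr hrc hx hx1 with e | e <;> rw [e]
    · exact ⟨_, Nat.eq_prime_pow_of_unique_prime_dvd (by linarith [T.ha]) fun hd hdd =>
        honly _ hd hdd⟩
    · exact ⟨_, Nat.eq_prime_pow_of_unique_prime_dvd (by linarith [T.hb]) fun hd hdd =>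
        honlyb _ hd hdd⟩
  · refine absurd (dvd_of_factorization (by linarith [T.hc]) (by linarith [T.hb])
      fun r hr hrc => ?_) hcb
    haveI := Fact.mk hr
    rw [T.factorization_c hcb hr hrc, ← hvb, factorization_index_of_not_dvd (not_dvd_card
      fun w hw hwr => ?_)]
    by_contra hw1
    exact T.not_commute hcb hr hq (hne r hrc) hwr hzq (T.index_c_prime hcb hr hrc hwr hw1) hzc
      (mem_C.mp (T.le_of_b hq hr (hne r hrc).symm hv hwr hvb (mem_C.mp hw).symm hzv)).symm
  · exact hvc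

theorem prime_dvd_a_of_c {q : ℕ} (hq : q.Prime) {z : G} (hz : IsPEl q z) (hzc : (C z).index = c) :
    q ∣ a := by
  haveI := Fact.mk hq
  have hz1 := T.ne_one T.hc hzc
  have hqd : q ∣ Nat.card G := by
    obtain ⟨j, hj⟩ := hz
    have hj0 : j ≠ 0 := fun e => hz1 (orderOf_eq_one_iff.mp (by rw [hj, e, pow_zero]))
    exact (dvd_pow_self q hj0).trans (hj ▸ orderOf_dvd_natCard z)
  exact (T.cover_one hcb hq hqd).resolve_right fun h => T.index_ne_one hcb hq h hz hzc

theorem prime_dvd_c_of_ab {q : ℕ} (hq : q.Prime) {x : G} (hx : IsPEl q x) (hx1 : x ≠ 1)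
    (hxab : (C x).index = a ∨ (C x).index = b) : q ∣ c := by
  haveI := Fact.mk hq
  have hqd : q ∣ Nat.card G := by
    obtain ⟨j, hj⟩ := hx
    have hj0 : j ≠ 0 := fun e => hx1 (orderOf_eq_one_iff.mp (by rw [hj, e, pow_zero]))
    exact (dvd_pow_self q hj0).trans (hj ▸ orderOf_dvd_natCard x)
  refine (T.cover_one hcb hq hqd).resolve_left fun h => ?_
  have := T.index_a_prime hcb hns hq h hx hx1
  rcases hxab with e | e <;> rw [e] at this
  · exact T.ac (this ▸ dvd_rfl)
  · exact T.bc (this ▸ dvd_rfl)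

/-- The centraliser of an element of class size `a` or `b` has no elements of class size `c`. -/
theorem not_mem_a_prime {p q : ℕ} (hp : p.Prime) (hq : q.Prime) (hqa : q ∣ a) {x w : G}
    (hx : IsPEl p x) (hx1 : x ≠ 1) (hxab : (C x).index = a ∨ (C x).index = b) (hw : IsPEl q w)
    (hwx : w ∈ C x) : w = 1 := by
  by_contra hw1
  have hpq : p ≠ q := fun e =>
    T.not_both hq hqa (e ▸ T.prime_dvd_c_of_ab hcb hns hp hx hx1 hxab)
  exact T.not_commute hcb hp hq hpq hx hw hxab (T.index_a_prime hcb hns hq hqa hw hw1)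
    (mem_C.mp hwx).symm

theorem factorization_a {q : ℕ} (hq : q.Prime) (hqa : q ∣ a) :
    a.factorization q = (Nat.card G).factorization q := by
  haveI := Fact.mk hq
  obtain ⟨p, x, hp, hx, hxa⟩ := T.exists_a
  rw [← hxa]
  exact factorization_index_of_not_dvd (not_dvd_card fun w hw hwq =>
    T.not_mem_a_prime hcb hns hp hq hqa hx (T.ne_one T.ha hxa) (Or.inl hxa) hwq hw)

theorem card_one : a * c = Nat.card G :=
  T.card_eq (fun _ hp hd => T.cover_one hcb hp hd) (fun _ hp ha => T.factorization_a hcb hns hp ha)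
    (fun _ hp hc => T.factorization_c hcb hp hc)

theorem card_C_c {z : G} (hz : (C z).index = c) : Nat.card (C z) = a := by
  have h := (C z).card_mul_index
  rw [hz, ← T.card_one hcb hns] at h
  exact Nat.eq_of_mul_eq_mul_right (by linarith [T.hc]) h

theorem card_C_a {x : G} (hx : (C x).index = a) : Nat.card (C x) = c := by
  have h := (C x).card_mul_index
  rw [hx, ← T.card_one hcb hns, mul_comm a c] at h
  exact Nat.eq_of_mul_eq_mul_right (by linarith [T.ha]) h

/-- No centraliser of an element of class size `a` is nilpotent. -/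
theorem not_nilpotent_a {x : G} (hx : (C x).index = a) : ¬ Group.IsNilpotent (C x) := by
  intro hn
  obtain ⟨q, z, hq, hz, hzc⟩ := T.exists_c
  refine hns (isSolvable_of_card_mul _ _ (T.nilpotent_c hcb hq hz hzc) hn ?_ ?_)
  · rw [T.card_C_c hcb hns hzc, T.card_C_a hcb hns hx]; exact T.cop
  · rw [T.card_C_c hcb hns hzc, T.card_C_a hcb hns hx, T.card_one hcb hns]

end Triple

end CfsgLib.ClassSizesFour
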