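import Cfsg.Agent.Lib.ClassSizesFour.Basic

/-!
Tools for the final count: fixed-point-free pairs, abelian centralisers covering a group, and
normalisers of abelian Hall subgroups.
-/

set_option autoImplicit false
set_option linter.unusedSectionVars false
set_option linter.style.haveILetI false

namespace CfsgLib.ClassSizesFour

open CfsgLib.ClassSizesThree (C mem_C self_mem_C mem_C_symm C_le_of_mem_zpowers C_mul IsPEl
  isPEl_of_isPGroup C_conj)

/-- A non-cyclic group of exponent `q` cannot act without fixed points. -/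
theorem pow_eq_one_of_free {V : Type*} [CommGroup V] {q : ℕ} (hq : q.Prime) (a b : MulAut V)
    (hab : Commute a b) (ha : a ^ q = 1) (hb : b ^ q = 1)
    (hfree : ∀ i j : ℕ, i < q → j < q → (i ≠ 0 ∨ j ≠ 0) → ∀ v : V, (a ^ i * b ^ j) v = v → v = 1)
    (v : V) : v ^ q = 1 := by
  have horbit : ∀ x : MulAut V, x ^ q = 1 → ∀ u : V,
      x (∏ i ∈ Finset.range q, (x ^ i) u) = ∏ i ∈ Finset.range q, (x ^ i) u := by
    intro x hx u
    rw [map_prod]
    have h1 := Finset.prod_range_succ' (fun i => (x ^ i) u) q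
    have h2 := Finset.prod_range_succ (fun i => (x ^ i) u) q
    rw [hx, MulAut.one_apply] at h2
    rw [pow_zero, MulAut.one_apply, h2] at h1
    rw [mul_right_cancel h1]
    exact Finset.prod_congr rfl fun i _ => by rw [← MulAut.mul_apply, ← pow_succ']
  have hb' : ∀ i : ℕ, 0 < i → i < q → ∀ u : V, ∏ j ∈ Finset.range q, ((b ^ i) ^ j) u = 1 := by
    intro i hi0 hiq u
    have hx : (b ^ i) ^ q = 1 := by rw [← pow_mul, mul_comm, pow_mul, hb, one_pow]
    refine hfree 0 i hq.pos hiq (.inr hi0.ne') _ ?_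
    rw [pow_zero, one_mul]
    exact horbit _ hx u
  have hline : ∀ j < q, ∏ i ∈ Finset.range q, ((a * b ^ j) ^ i) v = 1 := by
    intro j hj
    have hx : (a * b ^ j) ^ q = 1 := by
      rw [(hab.pow_right j).mul_pow, ha, ← pow_mul, mul_comm, pow_mul, hb, one_pow, one_mul]
    refine hfree 1 j hq.one_lt hj (.inl one_ne_zero) _ ?_
    rw [pow_one]
    exact horbit _ hx v
  have htot : ∏ j ∈ Finset.range q, ∏ i ∈ Finset.range q, ((a * b ^ j) ^ i) v = 1 :=
    Finset.prod_eq_one fun j hj => hline j (Finset.mem_range.mp hj)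
  rw [Finset.prod_comm, Finset.prod_eq_single 0 (fun i hi hi0 => ?_)
    (fun h => absurd (Finset.mem_range.mpr hq.pos) h)] at htot
  · simpa using htot
  · calc ∏ j ∈ Finset.range q, ((a * b ^ j) ^ i) v
        = (a ^ i) (∏ j ∈ Finset.range q, ((b ^ i) ^ j) v) := by
          rw [map_prod]
          refine Finset.prod_congr rfl fun j _ => ?_
          rw [(hab.pow_right j).mul_pow, MulAut.mul_apply, ← pow_mul, ← pow_mul, mul_comm i j]
      _ = 1 := by rw [hb' i (Nat.pos_of_ne_zero hi0) (Finset.mem_range.mp hi) v, map_one]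

variable {G : Type*} [Group G] [Finite G]

/-- A `p`-element has a conjugate in any subgroup of index prime to `p`. -/
theorem exists_conj_mem_of_not_dvd {p : ℕ} [Fact p.Prime] {H : Subgroup G} (h : ¬ p ∣ H.index)
    {u : G} (hu : IsPEl p u) : ∃ g : G, g * u * g⁻¹ ∈ H := by
  obtain ⟨P, hP⟩ := exists_sylow_le h
  obtain ⟨Q, hQ⟩ := exists_sylow_mem hu
  obtain ⟨g, hg⟩ := MulAction.exists_smul_eq G Q P
  refine ⟨g, hP ?_⟩
  rw [← hg, Sylow.coe_subgroup_smul]
  exact Subgroup.smul_mem_pointwise_smul u (MulAut.conj g) _ hQ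

/-- Abelian centralisers with full Sylow subgroups conjugate all elements into one of them. -/
theorem exists_conj_le_C {p : ℕ} [Fact p.Prime] {D : Subgroup G}
    (hD : ∀ x ∈ D, ∀ y ∈ D, Commute x y) (hp : ¬ p ∣ D.index) {v : G} (hv : IsPEl p v)
    (hidx : (C v).index = D.index) {h : G} (hh : h ∈ C v) : ∃ g : G, g * h * g⁻¹ ∈ D := by
  obtain ⟨g, hg⟩ := exists_conj_mem_of_not_dvd hp hv
  refine ⟨g, ?_⟩
  have hle : D ≤ C (g * v * g⁻¹) := fun x hx => mem_C.mpr (hD x hx _ hg)
  rw [eq_of_le_of_index hle ((index_C_conj g v).trans hidx).symm, C_conj]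
  exact Subgroup.mem_map_of_mem (MulAut.conj g).toMonoidHom hh

/-- Self-normalising abelian subgroups containing Sylow subgroups: Burnside's transfer. -/
theorem not_dvd_commutator {p : ℕ} [Fact p.Prime] (P : Sylow p G) {D : Subgroup G}
    (hPD : (P : Subgroup G) ≤ D) (hD : ∀ x ∈ D, ∀ y ∈ D, Commute x y)
    (hC : Subgroup.centralizer ((P : Subgroup G) : Set G) ≤ D)
    (hN : Subgroup.normalizer (D : Set G) ≤ D) : ¬ p ∣ Nat.card (commutator G) := by
  have hCD : Subgroup.centralizer ((P : Subgroup G) : Set G) = D :=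
    le_antisymm hC fun d hd => Subgroup.mem_centralizer_iff.mpr fun y hy => hD y (hPD hy) d hd
  have key : ∀ n ∈ Subgroup.normalizer ((P : Subgroup G) : Set G),
      ∀ h ∈ D, n * h * n⁻¹ ∈ D := by
    intro n hn h hh
    refine hC (Subgroup.mem_centralizer_iff.mpr fun y hy => ?_)
    have h1 : n⁻¹ * y * n⁻¹⁻¹ ∈ (P : Subgroup G) :=
      (Subgroup.mem_normalizer_iff.mp (inv_mem hn) y).mp hy
    rw [inv_inv] at h1
    have h2 : (n⁻¹ * y * n) * h = h * (n⁻¹ * y * n) := (hD _ (hPD h1) h hh).eq
    calc y * (n * h * n⁻¹) = n * ((n⁻¹ * y * n) * h) * n⁻¹ := by group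
      _ = n * (h * (n⁻¹ * y * n)) * n⁻¹ := by rw [h2]
      _ = n * h * n⁻¹ * y := by group
  have hle : Subgroup.normalizer (P : Set G) ≤ Subgroup.centralizer ((P : Subgroup G) : Set G) := by
    rw [hCD]
    intro n hn
    refine hN (Subgroup.mem_normalizer_iff.mpr fun h => ⟨key n hn h, fun hh => ?_⟩)
    simpa [mul_assoc] using key n⁻¹ (inv_mem hn) _ hh
  have hker : commutator G ≤ (MonoidHom.transferSylow P hle).ker := by
    rw [commutator_def, Subgroup.commutator_le]
    intro x _ y _
    rw [MonoidHom.mem_ker, map_commutatorElement, commutatorElement_eq_one_iff_mul_comm]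
    exact Subtype.ext (hD _ (hPD (MonoidHom.transferSylow P hle x).2) _
      (hPD (MonoidHom.transferSylow P hle y).2)).eq
  exact fun hd => MonoidHom.not_dvd_card_ker_transferSylow P hle
    (hd.trans (Subgroup.card_dvd_of_le hker))

theorem factorization_inf {p : ℕ} [hp : Fact p.Prime] (N H : Subgroup G) [N.Normal]
    (h : ¬ p ∣ H.index) :
    (Nat.card (N ⊓ H : Subgroup G)).factorization p = (Nat.card N).factorization p := by
  refine le_antisymm ((Nat.factorization_le_iff_dvd Nat.card_pos.ne' Nat.card_pos.ne').mpr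
    (Subgroup.card_dvd_of_le inf_le_left) p) ?_
  have h1 : Nat.card (N ⊓ H : Subgroup G) * N.relIndex H = Nat.card H := by
    rw [← Subgroup.inf_relIndex_right, ← (Subgroup.subgroupOf (N ⊓ H) H).card_mul_index,
      Nat.card_congr (Subgroup.subgroupOfEquivOfLe (inf_le_right : N ⊓ H ≤ H)).toEquiv]
    rfl
  have e1 : (Nat.card G).factorization p =
      (Nat.card N).factorization p + N.index.factorization p := by
    rw [← N.card_mul_index, Nat.factorization_mul Nat.card_pos.ne'
      Subgroup.index_ne_zero_of_finite, Finsupp.add_apply]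
  have e2 : (Nat.card G).factorization p = (Nat.card H).factorization p := by
    rw [← H.card_mul_index, Nat.factorization_mul Nat.card_pos.ne'
      Subgroup.index_ne_zero_of_finite, Finsupp.add_apply,
      Nat.factorization_eq_zero_of_not_dvd h, add_zero]
  have hne : N.relIndex H ≠ 0 := fun e =>
    Nat.card_pos.ne' (by rw [← h1, e, mul_zero] : Nat.card H = 0)
  have e3 : (Nat.card H).factorization p = (Nat.card (N ⊓ H : Subgroup G)).factorization p +
      (N.relIndex H).factorization p := by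
    rw [← h1, Nat.factorization_mul Nat.card_pos.ne' hne, Finsupp.add_apply]
  have e4 := (Nat.factorization_le_iff_dvd hne Subgroup.index_ne_zero_of_finite).mpr
    (Subgroup.relIndex_dvd_index_of_normal N H) p
  omega

/-- A union of conjugates of two subgroups properly contained in their normalisers. -/
theorem false_of_cover (A B : Subgroup G) (hA : A < Subgroup.normalizer (A : Set G))
    (hB : B < Subgroup.normalizer (B : Set G))
    (hcov : ∀ g : G, g ≠ 1 → (∃ h : G, h * g * h⁻¹ ∈ A) ∨ ∃ h : G, h * g * h⁻¹ ∈ B) : False := by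
  classical
  have hbound : ∀ M : Subgroup G, M < Subgroup.normalizer (M : Set G) →
      Nat.card {g : G // g ≠ 1 ∧ ∃ h : G, h * g * h⁻¹ ∈ M} +
        (Subgroup.normalizer (M : Set G)).index ≤
        (Subgroup.normalizer (M : Set G)).index * Nat.card M ∧
      2 * ((Subgroup.normalizer (M : Set G)).index * Nat.card M) ≤ Nat.card G := by
    intro M hM
    set N := Subgroup.normalizer (M : Set G)
    have hc : Nat.card {g : G // g ≠ 1 ∧ ∃ h : G, h * g * h⁻¹ ∈ M} ≤
        Nat.card ((G ⧸ N) × {m : M // m ≠ 1}) := by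
      let f : (G ⧸ N) × {m : M // m ≠ 1} → {g : G // g ≠ 1 ∧ ∃ h : G, h * g * h⁻¹ ∈ M} :=
        fun x => ⟨x.1.out * x.2.1 * x.1.out⁻¹, fun e => x.2.2 (Subtype.ext (by
          have := mul_inv_eq_one.mp e
          exact mul_eq_left.mp this)), x.1.out⁻¹, by simp [mul_assoc]⟩
      refine Nat.card_le_card_of_surjective f fun ⟨g, hg1, h, hh⟩ => ?_
      obtain ⟨n, hn⟩ : ∃ n : N, ((h⁻¹ : G) : G ⧸ N).out = h⁻¹ * n :=
        QuotientGroup.mk_out_eq_mul N h⁻¹
      refine ⟨((h⁻¹ : G), ⟨⟨(n : G)⁻¹ * (h * g * h⁻¹) * n, ?_⟩, ?_⟩), Subtype.ext ?_⟩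
      · simpa using (Subgroup.mem_normalizer_iff.mp (N.inv_mem n.2) _).mp hh
      · intro e
        have e' : (n : G)⁻¹ * (h * g * h⁻¹) * n = 1 := congrArg Subtype.val e
        apply hg1
        calc g = h⁻¹ * (n : G) * ((n : G)⁻¹ * (h * g * h⁻¹) * n) * (n : G)⁻¹ * h := by group
          _ = 1 := by rw [e']; group
      · show ((h⁻¹ : G) : G ⧸ N).out * ((n : G)⁻¹ * (h * g * h⁻¹) * n) *
          (((h⁻¹ : G) : G ⧸ N).out)⁻¹ = g
        rw [hn]
        group
    rw [Nat.card_prod, ← Subgroup.index_eq_card] at hc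
    have hm : Nat.card {m : M // m ≠ 1} + 1 = Nat.card M := by
      haveI := Fintype.ofFinite M
      have hpos := Fintype.card_pos (α := M)
      rw [Nat.card_eq_fintype_card, Nat.card_eq_fintype_card, Fintype.card_subtype_compl,
        Fintype.card_subtype_eq]
      omega
    refine ⟨?_, ?_⟩
    · calc _ ≤ N.index * Nat.card {m : M // m ≠ 1} + N.index := by gcongr
        _ = _ := by rw [← hm]; ring
    · have h2 : 2 * Nat.card M ≤ Nat.card N := by
        obtain ⟨t, ht⟩ := Subgroup.card_dvd_of_le hM.le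
        have : 2 ≤ t := by
          by_contra hlt
          interval_cases t
          · exact Nat.card_pos.ne' (by rw [ht, mul_zero] : Nat.card N = 0)
          · exact hM.ne (Subgroup.eq_of_le_of_card_ge hM.le (by rw [ht, mul_one]))
        rw [ht, mul_comm 2]
        gcongr
      calc 2 * (N.index * Nat.card M) = N.index * (2 * Nat.card M) := by ring
        _ ≤ N.index * Nat.card N := by gcongr
        _ = _ := N.index_mul_card
  obtain ⟨a1, a2⟩ := hbound A hA
  obtain ⟨b1, b2⟩ := hbound B hB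
  have htot : Nat.card {g : G // g ≠ 1} ≤
      Nat.card {g : G // g ≠ 1 ∧ ∃ h : G, h * g * h⁻¹ ∈ A} +
      Nat.card {g : G // g ≠ 1 ∧ ∃ h : G, h * g * h⁻¹ ∈ B} := by
    rw [← Nat.card_sum]
    refine Nat.card_le_card_of_surjective
      (Sum.elim (fun x => ⟨x.1, x.2.1⟩) fun x => ⟨x.1, x.2.1⟩) fun g => ?_
    rcases hcov g g.2 with h | h
    · exact ⟨Sum.inl ⟨g, g.2, h⟩, rfl⟩
    · exact ⟨Sum.inr ⟨g, g.2, h⟩, rfl⟩
  have hG : Nat.card {g : G // g ≠ 1} + 1 = Nat.card G := by
    haveI := Fintype.ofFinite G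
    have hpos := Fintype.card_pos (α := G)
    rw [Nat.card_eq_fintype_card, Nat.card_eq_fintype_card, Fintype.card_subtype_compl,
      Fintype.card_subtype_eq]
    omega
  have i1 := Nat.pos_of_ne_zero (Subgroup.index_ne_zero_of_finite
    (H := Subgroup.normalizer (A : Set G)))
  have i2 := Nat.pos_of_ne_zero (Subgroup.index_ne_zero_of_finite
    (H := Subgroup.normalizer (B : Set G)))
  omega

end CfsgLib.ClassSizesFour
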