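import Cfsg.Agent.Lib.ClassSizesFour.Basic
import Cfsg.Agent.Lib.AltPPair.Cyclic
import Cfsg.Agent.Lib.NilProduct.Containing

/-!
A `{r, s}`-group modulo the centre in which every non-central `r`-element has the centraliser of a
non-central `s`-element, and conversely, has a non-central element central in a Sylow subgroup for
`r` or `s`.
-/

set_option autoImplicit false
set_option linter.unusedSectionVars false
set_option linter.style.haveILetI false

namespace CfsgLib.ClassSizesFour

open CfsgLib.ClassSizesThree (C mem_C self_mem_C mem_C_symm C_le_of_mem_zpowers C_mul IsPEl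
  isPEl_of_isPGroup C_conj)

variable {W : Type*} [Group W] [Finite W]

/-- The elements of `p`-power order of an abelian subgroup. -/
def pPart (p : ℕ) [Fact p.Prime] (A : Subgroup W) (hA : ∀ x ∈ A, ∀ y ∈ A, Commute x y) :
    Subgroup W where
  carrier := {x | x ∈ A ∧ IsPEl p x}
  one_mem' := ⟨one_mem _, 0, by simp⟩
  mul_mem' := by
    rintro x y ⟨hx, i, hi⟩ ⟨hy, j, hj⟩
    refine ⟨mul_mem hx hy, IsPEl.of_pow (j := i + j) ?_⟩
    rw [(hA x hx y hy).mul_pow, pow_add, pow_mul, ← hi, pow_orderOf_eq_one, one_pow, one_mul,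
      mul_comm, pow_mul, ← hj, pow_orderOf_eq_one, one_pow]
  inv_mem' := by
    rintro x ⟨hx, i, hi⟩
    exact ⟨inv_mem hx, i, by rw [orderOf_inv, hi]⟩

theorem pPart_normal (p : ℕ) [Fact p.Prime] (A : Subgroup W) [A.Normal]
    (hA : ∀ x ∈ A, ∀ y ∈ A, Commute x y) : (pPart p A hA).Normal :=
  ⟨fun _ ⟨hx, hp⟩ g => ⟨Subgroup.Normal.conj_mem inferInstance _ hx g, hp.conj g⟩⟩

/-- A group of automorphisms of coprime order of an abelian normal `q`-subgroup moves an element
central in a Sylow `q`-subgroup. -/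
theorem exists_central_of_action {q : ℕ} [Fact q.Prime] (A N K : Subgroup W) [hAn : A.Normal]
    [hNn : N.Normal] (hA : ∀ x ∈ A, ∀ y ∈ A, Commute x y) (hAq : ∀ x ∈ A, IsPEl q x)
    (hK : ∀ k ∈ K, ∀ x ∈ A, Commute k x) (hq : ¬ q ∣ K.relIndex N)
    (hmove : ∃ n ∈ N, ∃ x ∈ A, ¬ Commute n x) :
    ∃ w : W, IsPEl q w ∧ w ∉ Subgroup.center W ∧ ¬ q ∣ (C w).index := by
  classical
  letI : CommGroup A :=
    { (inferInstance : Group A) with mul_comm := fun x y => Subtype.ext (hA x x.2 y y.2) }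
  let φ : N →* MulAut A := (MulAut.conjNormal (H := A)).comp N.subtype
  have hcard : ¬ q ∣ Nat.card φ.range := by
    intro hd
    refine hq (hd.trans ?_)
    rw [← Subgroup.index_ker, Subgroup.relIndex]
    refine Subgroup.index_dvd_of_le fun n hn => ?_
    refine MonoidHom.mem_ker.mpr (MulEquiv.ext fun x => Subtype.ext ?_)
    have := (hK n hn x x.2).eq
    show ((n : W) * x * (n : W)⁻¹ : W) = x
    rw [this, mul_inv_cancel_right]
  letI := Fintype.ofFinite φ.range
  let Φ : A →* A :=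
    { toFun := fun x => ∏ m : φ.range, (m : MulAut A) x
      map_one' := by simp
      map_mul' := fun x y => by simp [Finset.prod_mul_distrib] }
  have hinv : ∀ (n : N) (x : A), Φ (φ n x) = Φ x := by
    intro n x
    show ∏ m : φ.range, (m : MulAut A) (φ n x) = ∏ m : φ.range, (m : MulAut A) x
    exact Fintype.prod_equiv (Equiv.mulRight (⟨φ n, n, rfl⟩ : φ.range)) _ _ fun m => by simp
  have hfix : ∀ x : A, (x : W) ∈ Subgroup.center W → Φ x = x ^ Nat.card φ.range := by
    intro x hx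
    show ∏ m : φ.range, (m : MulAut A) x = _
    rw [Finset.prod_eq_pow_card (b := x) fun m _ => ?_, Nat.card_eq_fintype_card, Finset.card_univ]
    obtain ⟨_, n, rfl⟩ := m
    refine Subtype.ext ?_
    show (n : W) * x * (n : W)⁻¹ = x
    rw [Subgroup.mem_center_iff.mp hx, mul_inv_cancel_right]
  have hequi : ∀ (g : W) (x : A), Φ (MulAut.conjNormal g x) = MulAut.conjNormal g (Φ x) := by
    intro g x
    show ∏ m : φ.range, (m : MulAut A) (MulAut.conjNormal g x) =
      MulAut.conjNormal g (∏ m : φ.range, (m : MulAut A) x)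
    rw [map_prod]
    let θ : φ.range → φ.range := fun m => ⟨(MulAut.conjNormal g⁻¹ : MulAut A) * (m : MulAut A) * (MulAut.conjNormal g : MulAut A), by
      obtain ⟨_, n, rfl⟩ := m
      refine ⟨⟨g⁻¹ * n * g, by simpa using hNn.conj_mem _ n.2 g⁻¹⟩, ?_⟩
      show MulAut.conjNormal (g⁻¹ * (n : W) * g) = _
      rw [map_mul, map_mul]
      rfl⟩
    have hθ : Function.Bijective θ := Finite.injective_iff_bijective.mp fun m₁ m₂ e => by
      have e' := congrArg Subtype.val e
      exact Subtype.ext (mul_left_cancel (mul_right_cancel e'))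
    refine Fintype.prod_bijective θ hθ _ _ fun m => ?_
    show (m : MulAut A) (MulAut.conjNormal g x) = MulAut.conjNormal g
      (((MulAut.conjNormal g⁻¹ : MulAut A) * (m : MulAut A) * (MulAut.conjNormal g : MulAut A)) x)
    simp
  set W0 := Φ.ker.map A.subtype with hW0
  haveI hW0n : W0.Normal := ⟨by
    rintro _ ⟨x, hx, rfl⟩ g
    exact ⟨MulAut.conjNormal g x,
      MonoidHom.mem_ker.mpr (by rw [hequi, MonoidHom.mem_ker.mp hx, map_one]), rfl⟩⟩
  have hW0ne : W0 ≠ ⊥ := by
    obtain ⟨n, hn, x, hx, hnx⟩ := hmove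
    intro e
    have hmem : (((⟨x, hx⟩ : A)⁻¹ * φ ⟨n, hn⟩ ⟨x, hx⟩ : A) : W) ∈ W0 :=
      ⟨_, MonoidHom.mem_ker.mpr ((map_mul Φ _ _).trans (by rw [map_inv, hinv, inv_mul_cancel])), rfl⟩
    rw [e, Subgroup.mem_bot] at hmem
    apply hnx
    have h1 : x⁻¹ * (n * x * n⁻¹) = 1 := hmem
    rw [inv_mul_eq_one] at h1
    show n * x = x * n
    conv_rhs => rw [h1]
    group
  obtain ⟨R⟩ : Nonempty (Sylow q W) := inferInstance
  have hW0q : IsPGroup q W0 := IsPGroup.iff_orderOf.mpr fun w => by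
    obtain ⟨x, -, hx⟩ := w.2
    obtain ⟨j, hj⟩ := hAq _ x.2
    exact ⟨j, by rw [← hj, ← Subgroup.orderOf_coe w, ← hx]; rfl⟩
  have hle : W0 ≤ (R : Subgroup W) :=
    le_sup_left.trans (R.is_maximal' (hW0q.to_sup_of_normal_left R.2) le_sup_right).le
  obtain ⟨w, ⟨hw0, hwR⟩, hw1⟩ := (Subgroup.bot_or_exists_ne_one _).resolve_left
    (CfsgLib.NilProduct.inf_center_ne_bot R.2 hle hW0ne)
  obtain ⟨x, hxk, rfl⟩ := hw0
  refine ⟨A.subtype x, hAq _ x.2, fun hz => hw1 ?_, fun hd => R.not_dvd_index (hd.trans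
    (Subgroup.index_dvd_of_le fun y hy =>
      mem_C.mpr (Subgroup.mem_centralizer_iff.mp hwR y hy)))⟩
  have h1 := hfix x hz
  rw [MonoidHom.mem_ker.mp hxk] at h1
  have hdd : orderOf x ∣ Nat.card φ.range := orderOf_dvd_of_pow_eq_one h1.symm
  obtain ⟨j, hj⟩ := hAq _ x.2
  rw [← Subgroup.orderOf_coe, hj] at hdd
  rcases Nat.eq_zero_or_pos j with e | e
  · rw [e, pow_zero, orderOf_eq_one_iff] at hj
    exact hj
  · exact absurd ((dvd_pow_self q e.ne').trans hdd) hcard

/-- An abelian normal `t`-subgroup in a solvable group of non-trivial quotient. -/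
theorem exists_normal_pStep (K : Subgroup W) [K.Normal] [Group.IsSolvable W] (hK : K ≠ ⊤) :
    ∃ (t : ℕ) (N : Subgroup W), t.Prime ∧ N.Normal ∧ K < N ∧
      (∀ x ∈ N, ∀ y ∈ N, x * y * (y * x)⁻¹ ∈ K) ∧ t ∣ K.index ∧
      (∀ p : ℕ, p.Prime → p ∣ K.relIndex N → p = t) := by
  haveI : Nontrivial (W ⧸ K) := by
    rw [← Finite.one_lt_card_iff_nontrivial, ← Subgroup.index_eq_card]
    exact Subgroup.one_lt_index_of_ne_top hK
  obtain ⟨A, hAn, hA1, hA⟩ := CfsgLib.AltPPair.exists_abelian_normal (G := W ⧸ K)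
  obtain ⟨t, ht, htd⟩ := Nat.exists_prime_and_dvd (fun h => hA1 (Subgroup.card_eq_one.mp h))
  haveI := Fact.mk ht
  haveI := hAn
  set B := pPart t A hA
  haveI hBn : B.Normal := pPart_normal t A hA
  have hB1 : B ≠ ⊥ := by
    obtain ⟨⟨v, hv⟩, ho⟩ := exists_prime_orderOf_dvd_card' t htd
    rw [Subgroup.orderOf_mk] at ho
    intro e
    have : v ∈ B := ⟨hv, 1, by rw [ho, pow_one]⟩
    rw [e, Subgroup.mem_bot] at this
    rw [this, orderOf_one] at ho
    exact ht.ne_one ho.symm
  refine ⟨t, B.comap (QuotientGroup.mk' K), ht, inferInstance, ?_, ?_, ?_, ?_⟩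
  · refine lt_of_le_of_ne (fun k hk => ?_) fun e => hB1 ?_
    · rw [Subgroup.mem_comap, QuotientGroup.mk'_apply, (QuotientGroup.eq_one_iff k).mpr hk]
      exact one_mem _
    · rw [← Subgroup.map_comap_eq_self_of_surjective (QuotientGroup.mk'_surjective K) B, ← e,
        QuotientGroup.map_mk'_self]
  · intro x hx y hy
    rw [← QuotientGroup.eq_one_iff, QuotientGroup.mk_mul, QuotientGroup.mk_mul, QuotientGroup.mk_inv,
      QuotientGroup.mk_mul]
    exact mul_inv_eq_one.mpr (hA _ hx.1 _ hy.1)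
  · rw [Subgroup.index_eq_card]
    exact htd.trans A.card_subgroup_dvd_card
  · intro p hp hd
    have hrel : K.relIndex (B.comap (QuotientGroup.mk' K)) = Nat.card B := by
      have h := Subgroup.relIndex_comap (⊥ : Subgroup (W ⧸ K)) (QuotientGroup.mk' K)
        (B.comap (QuotientGroup.mk' K))
      rwa [MonoidHom.comap_bot, QuotientGroup.ker_mk', Subgroup.map_comap_eq_self_of_surjective
        (QuotientGroup.mk'_surjective K), Subgroup.relIndex_bot_left] at h
    rw [hrel] at hd
    haveI := Fact.mk hp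
    obtain ⟨⟨v, hv⟩, ho⟩ := exists_prime_orderOf_dvd_card' p hd
    rw [Subgroup.orderOf_mk] at ho
    obtain ⟨-, j, hj⟩ := hv
    rw [ho] at hj
    have hj0 : j ≠ 0 := fun e => hp.ne_one (by rw [hj, e, pow_zero])
    exact ((Nat.prime_dvd_prime_iff_eq ht hp).mp (hj ▸ dvd_pow_self t hj0)).symm

/-- See the file's summary. -/
theorem false_of_partner {r s : ℕ} (hr : r.Prime) (hs : s.Prime) (hrs : r ≠ s)
    (hπ : ∀ p : ℕ, p.Prime → p ∣ (Subgroup.center W).index → p = r ∨ p = s)
    (hW : Subgroup.center W ≠ ⊤)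
    (hp₁ : ∀ u : W, IsPEl r u → u ∉ Subgroup.center W →
      ∃ e : W, IsPEl s e ∧ e ∉ Subgroup.center W ∧ C u = C e)
    (hp₂ : ∀ u : W, IsPEl s u → u ∉ Subgroup.center W →
      ∃ e : W, IsPEl r e ∧ e ∉ Subgroup.center W ∧ C u = C e)
    (hf₁ : ∀ u : W, IsPEl r u → u ∉ Subgroup.center W → r ∣ (C u).index)
    (hf₂ : ∀ u : W, IsPEl s u → u ∉ Subgroup.center W → s ∣ (C u).index) : False := by
  haveI : Group.IsSolvable W := by
    by_contra hns
    obtain ⟨t, ht, htd, h1, h2⟩ := CfsgLib.ClassSizesThree.exists_third_prime hns hr hs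
    exact (hπ t ht htd).elim h1 h2
  obtain ⟨t, N, ht, hNn, hlt, hcom, htd, htN⟩ := exists_normal_pStep (Subgroup.center W) hW
  wlog htr : t = r generalizing r s with H
  · exact H hs hr hrs.symm (fun p hp hd => (hπ p hp hd).symm) hp₂ hp₁ hf₂ hf₁
      ((hπ t ht htd).resolve_left htr)
  subst htr
  haveI := Fact.mk hr
  haveI := Fact.mk hs
  haveI := hNn
  haveI hNnil : Group.IsNilpotent N := by
    refine Group.of_quotient_center_nilpotent ?_
    haveI : Group.IsNilpotent (N ⧸ (Subgroup.center W).subgroupOf N) :=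
      (IsPGroup.of_card (p := t) (n := ((Subgroup.center W).relIndex N).primeFactorsList.length)
        (by rw [← Subgroup.index_eq_card]
            exact Nat.eq_prime_pow_of_unique_prime_dvd Subgroup.index_ne_zero_of_finite
              fun {p} hp hd => htN p hp hd)).isNilpotent
    have hle : (Subgroup.center W).subgroupOf N ≤ Subgroup.center N := fun z hz =>
      Subgroup.mem_center_iff.mpr fun g => Subtype.ext (Subgroup.mem_center_iff.mp hz g)
    refine Group.nilpotent_of_surjective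
      (QuotientGroup.map ((Subgroup.center W).subgroupOf N) (Subgroup.center N) (MonoidHom.id N) hle)
      fun x => ?_
    induction x using QuotientGroup.induction_on with
    | H z => exact ⟨QuotientGroup.mk z, rfl⟩
  obtain ⟨Q⟩ : Nonempty (Sylow t N) := inferInstance
  haveI hQn : (Q : Subgroup N).Normal := inferInstance
  haveI := Sylow.characteristic_of_normal Q hQn
  set R0 := (Q : Subgroup N).map N.subtype with hR0
  haveI hR0n : R0.Normal := inferInstance
  have hR0t : ∀ x ∈ R0, IsPEl t x := fun x hx => isPEl_of_isPGroup (Q.2.map _) hx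
  have hR0ne : ∃ u ∈ R0, u ∉ Subgroup.center W := by
    by_contra hcon
    push Not at hcon
    obtain ⟨p, hp, hpd⟩ := Nat.exists_prime_and_dvd (show (Subgroup.center W).relIndex N ≠ 1 from
      fun h => hlt.not_ge (Subgroup.relIndex_eq_one.mp h))
    rw [htN p hp hpd] at hpd
    exact Q.not_dvd_index (hpd.trans (Subgroup.index_dvd_of_le fun x hx =>
      hcon _ (Subgroup.mem_map_of_mem _ hx)))
  have hcomZ : ∀ x ∈ R0, ∀ y ∈ R0, x * y * (y * x)⁻¹ ∈ Subgroup.center W := fun x hx y hy =>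
    hcom x (Subgroup.map_subtype_le _ hx) y (Subgroup.map_subtype_le _ hy)
  have hcent : ∀ u ∈ R0, u ∉ Subgroup.center W → ∀ e : W, IsPEl s e → C u = C e →
      R0 ≤ C e := by
    intro u hu huZ e he hue g hg
    have heu : Commute e u := mem_C.mp (hue ▸ self_mem_C e)
    set g' := g⁻¹ * (e * g * e⁻¹) with hg'
    have hgR : g' ∈ R0 := mul_mem (inv_mem hg) (hR0n.conj_mem g hg e)
    have hcu : Commute g' u := by
      have hz := Subgroup.mem_center_iff.mp (hcomZ g hg u hu)
      generalize hc : g * u * (u * g)⁻¹ = z at hz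
      have e1 : g * u = z * (u * g) := by rw [← hc]; group
      have e2 : e * g * e⁻¹ * u = z * (u * (e * g * e⁻¹)) := by
        calc e * g * e⁻¹ * u = e * g * (e⁻¹ * u) := by group
          _ = e * g * (u * e⁻¹) := by rw [heu.inv_left.eq]
          _ = e * (g * u) * e⁻¹ := by group
          _ = e * z * (u * g) * e⁻¹ := by rw [e1]; group
          _ = z * (e * u) * g * e⁻¹ := by rw [hz e]; group
          _ = z * (u * e) * g * e⁻¹ := by rw [heu.eq]
          _ = _ := by group
      have e3 : g⁻¹ * (z * u) = u * g⁻¹ := by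
        calc g⁻¹ * (z * u) = g⁻¹ * (z * (u * g)) * g⁻¹ := by group
          _ = g⁻¹ * (g * u) * g⁻¹ := by rw [e1]
          _ = u * g⁻¹ := by group
      show g' * u = u * g'
      calc g' * u = g⁻¹ * (e * g * e⁻¹ * u) := by rw [hg']; group
        _ = g⁻¹ * (z * u) * (e * g * e⁻¹) := by rw [e2]; group
        _ = u * g' := by rw [e3, hg']; group
    have hce : Commute g' e := mem_C.mp (hue ▸ mem_C.mpr hcu)
    have hn : ∀ n : ℕ, e ^ n * g * (e ^ n)⁻¹ = g * g' ^ n := by
      intro n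
      induction n with
      | zero => simp
      | succ n ih =>
        calc e ^ (n + 1) * g * (e ^ (n + 1))⁻¹ = e * (e ^ n * g * (e ^ n)⁻¹) * e⁻¹ := by
              rw [pow_succ']; group
          _ = (e * g * e⁻¹) * (e * g' ^ n * e⁻¹) := by rw [ih]; group
          _ = g * g' * g' ^ n := by
              rw [(hce.symm.pow_right n).eq, hg']; group
          _ = g * g' ^ (n + 1) := by rw [pow_succ']; group
    have h1 := hn (orderOf e)
    rw [pow_orderOf_eq_one, one_mul, inv_one, mul_one, left_eq_mul] at h1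
    have hd := orderOf_dvd_of_pow_eq_one h1
    have := Nat.eq_one_of_dvd_coprimes (coprime_of_ne hr hs hrs (hR0t _ hgR) he) dvd_rfl hd
    rw [orderOf_eq_one_iff, hg', inv_mul_eq_one] at this
    refine mem_C.mpr ?_
    show g * e = e * g
    calc g * e = e * g * e⁻¹ * e := by rw [← this]
      _ = e * g := by group
  have hR0C : ∀ u ∈ R0, u ∉ Subgroup.center W → R0 ≤ C u := fun u hu huZ => by
    obtain ⟨e, he, -, hue⟩ := hp₁ u (hR0t u hu) huZ
    exact hue ▸ hcent u hu huZ e he hue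
  have hR0ab : ∀ x ∈ R0, ∀ y ∈ R0, Commute x y := fun x hx y hy => by
    by_cases hyZ : y ∈ Subgroup.center W
    · exact Subgroup.mem_center_iff.mp hyZ x
    · exact mem_C.mp (hR0C y hy hyZ hx)
  set K := Subgroup.centralizer (R0 : Set W) with hK
  set ZK := K ⊓ Subgroup.centralizer (K : Set W) with hZK
  haveI : ZK.Normal := Subgroup.normal_inf_normal K (Subgroup.centralizer (K : Set W))
  have hZKab : ∀ x ∈ ZK, ∀ y ∈ ZK, Commute x y := fun x hx y hy =>
    (Subgroup.mem_centralizer_iff.mp hx.2 y hy.1).symm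
  set S0 := pPart s ZK hZKab with hS0
  haveI : S0.Normal := pPart_normal s ZK hZKab
  have hS0e : ∀ u ∈ R0, u ∉ Subgroup.center W →
      ∃ e ∈ S0, e ∉ Subgroup.center W ∧ C u = C e := by
    intro u hu huZ
    obtain ⟨e, he, heZ, hue⟩ := hp₁ u (hR0t u hu) huZ
    refine ⟨e, ⟨⟨Subgroup.mem_centralizer_iff.mpr fun g hg =>
      (mem_C.mp (hcent u hu huZ e he hue hg)).eq, Subgroup.mem_centralizer_iff.mpr fun k hk => ?_⟩,
      he⟩, heZ, hue⟩
    have : k ∈ C u := mem_C.mpr (Subgroup.mem_centralizer_iff.mp hk u hu).symm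
    exact (mem_C.mp (hue ▸ this)).eq
  have hK1 : ∀ k : W, (∀ e ∈ S0, Commute k e) → k ∈ K := by
    intro k hk
    refine Subgroup.mem_centralizer_iff.mpr fun u hu => ?_
    by_cases huZ : u ∈ Subgroup.center W
    · exact (Subgroup.mem_center_iff.mp huZ k).symm
    · obtain ⟨e, he, -, hue⟩ := hS0e u hu huZ
      exact (mem_C.mp (hue ▸ mem_C.mpr (hk e he) : k ∈ C u)).symm.eq
  have hKtop : K ≠ ⊤ := by
    obtain ⟨u, hu, huZ⟩ := hR0ne
    intro e
    exact huZ (Subgroup.mem_center_iff.mpr fun g =>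
      (Subgroup.mem_centralizer_iff.mp ((hK ▸ e) ▸ Subgroup.mem_top g) u hu).symm)
  obtain ⟨p, M, hp, hMn, hKM, -, hpd, hpM⟩ := exists_normal_pStep K hKtop
  haveI := hMn
  have hrel : ∀ q : ℕ, q.Prime → q ≠ p → ¬ q ∣ K.relIndex M := fun q hq hne hd => hne (hpM q hq hd)
  obtain ⟨m, hm, hmK⟩ := SetLike.exists_of_lt hKM
  have hZK' : Subgroup.center W ≤ K := Subgroup.center_le_centralizer _
  rcases hπ p hp (hpd.trans (Subgroup.index_dvd_of_le hZK')) with rfl | rfl
  · obtain ⟨w, hw, hwZ, hwd⟩ := exists_central_of_action (q := s) S0 M K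
      (fun x hx y hy => hZKab x hx.1 y hy.1) (fun x hx => hx.2)
      (fun k hk x hx => Subgroup.mem_centralizer_iff.mp hx.1.2 k hk)
      (hrel s hs hrs.symm) (by
        by_contra hcon
        push Not at hcon
        exact hmK (hK1 m fun e he => hcon m hm e he))
    exact hwd (hf₂ w hw hwZ)
  · obtain ⟨w, hw, hwZ, hwd⟩ := exists_central_of_action (q := t) R0 M K hR0ab hR0t
      (fun k hk x hx => (Subgroup.mem_centralizer_iff.mp hk x hx).symm)
      (hrel t hr hrs) (by
        by_contra hcon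
        push Not at hcon
        exact hmK (Subgroup.mem_centralizer_iff.mpr fun u hu => (hcon m hm u hu).symm.eq))
    exact hwd (hf₁ w hw hwZ)

end CfsgLib.ClassSizesFour
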