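import Cfsg.Agent.Lib.ClassSizesFour.CaseOne
import Cfsg.Agent.Lib.ClassSizesFour.Partner
import Cfsg.Agent.Lib.TwoClassSizes.NormalFinal
import Cfsg.Agent.S4125

/-!
Class sizes `1, a, b, c` with `a ∣ b` and `c ∤ b`: elements of class size `a` of two different
prime power orders do not exist when one of the primes divides `b`.
-/

set_option autoImplicit false
set_option linter.unusedSectionVars false
set_option linter.style.haveILetI false

namespace CfsgLib.ClassSizesFour

open CfsgLib.ClassSizesThree (C mem_C self_mem_C mem_C_symm C_le_of_mem_zpowers C_mul IsPEl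
  isPEl_of_isPGroup C_conj center_le_C)

variable {G : Type*} [Group G] [Finite G] {a b c : ℕ}

theorem isPEl_coe {H : Subgroup G} {p : ℕ} {w : H} : IsPEl p (w : G) ↔ IsPEl p w := by
  simp [IsPEl, Subgroup.orderOf_coe]

/-- An element of `p`-power order in a subgroup of index prime to `p` lies in one of its Sylow
subgroups. -/
theorem exists_sylow_le_mem {p : ℕ} [Fact p.Prime] {H : Subgroup G} (h : ¬ p ∣ H.index) {e : G}
    (he : IsPEl p e) (heH : e ∈ H) :
    ∃ P : Sylow p G, (P : Subgroup G) ≤ H ∧ e ∈ (P : Subgroup G) := by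
  obtain ⟨S, hS⟩ := (isPEl_coe.mp (show IsPEl p ((⟨e, heH⟩ : H) : G) from he)).isPGroup.exists_le_sylow
  have hm : IsPGroup p ((S : Subgroup H).map H.subtype) := S.2.map _
  have hidx : ¬ p ∣ ((S : Subgroup H).map H.subtype).index := by
    rw [Subgroup.index_map_subtype]
    exact fun hd => ((Fact.out : p.Prime).dvd_mul.mp hd).elim S.not_dvd_index h
  refine ⟨hm.toSylow hidx, ?_, ?_⟩
  · rw [IsPGroup.toSylow_coe]; exact Subgroup.map_subtype_le _
  · rw [IsPGroup.toSylow_coe]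
    exact ⟨⟨e, heH⟩, hS (Subgroup.mem_zpowers _), rfl⟩

/-- The `p`-part of a cyclic group is generated by one element. -/
theorem exists_pGen (g : G) (p : ℕ) [Fact p.Prime] :
    ∃ v ∈ Subgroup.zpowers g, IsPEl p v ∧
      ∀ y ∈ Subgroup.zpowers g, IsPEl p y → y ∈ Subgroup.zpowers v := by
  have hab : ∀ x ∈ Subgroup.zpowers g, ∀ y ∈ Subgroup.zpowers g, Commute x y := by
    rintro x ⟨i, rfl⟩ y ⟨j, rfl⟩
    exact Commute.zpow_zpow_self g i j
  have hle : pPart p (Subgroup.zpowers g) hab ≤ Subgroup.zpowers g := fun x hx => hx.1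
  haveI : IsCyclic (pPart p (Subgroup.zpowers g) hab) :=
    isCyclic_of_injective (Subgroup.inclusion hle) (Subgroup.inclusion_injective hle)
  obtain ⟨v, hv⟩ := IsCyclic.exists_generator (α := pPart p (Subgroup.zpowers g) hab)
  refine ⟨v, v.2.1, v.2.2, fun y hy hyp => ?_⟩
  obtain ⟨i, hi⟩ := hv ⟨y, hy, hyp⟩
  exact ⟨i, congrArg Subtype.val hi⟩

/-- Classes of `r`-power size of all `s`-elements make the Sylow `s`-subgroups abelian. -/
theorem sylow_comm {r s : ℕ} [Fact s.Prime] (hr : r.Prime) (hrs : r ≠ s)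
    (h : ∀ w : G, IsPEl s w → ∃ i : ℕ, (C w).index = r ^ i) (S : Sylow s G) :
    ∀ x ∈ (S : Subgroup G), ∀ y ∈ (S : Subgroup G), Commute x y := by
  by_cases hd : s ∣ Nat.card G
  · obtain ⟨p, hp, hall, -, hne⟩ :=
      (Cfsg.Agent.S4125.result s hd (fun x ⟨k, hk⟩ => by
        obtain ⟨i, hi⟩ := h x ⟨k, hk⟩
        exact ⟨r, i, hr, hi⟩) S).2
    by_cases hps : p = s
    · intro x hx y _
      obtain ⟨i, hi⟩ := h x (isPEl_of_isPGroup S.2 hx)
      obtain ⟨j, hj⟩ := hall x (isPEl_of_isPGroup S.2 hx)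
      rw [hps] at hj
      rcases Nat.eq_zero_or_pos i with e | e
      · rw [e, pow_zero, index_C_eq_one_iff] at hi
        exact (Subgroup.mem_center_iff.mp hi y).symm
      · have hdd : r ∣ s ^ j := by rw [← hj, hi]; exact dvd_pow_self r e.ne'
        exact absurd ((Nat.prime_dvd_prime_iff_eq hr Fact.out).mp (hr.dvd_of_dvd_pow hdd)) hrs
    · intro x hx y hy
      exact congrArg Subtype.val ((hne hps).1.is_comm.comm ⟨x, hx⟩ ⟨y, hy⟩)
  · intro x hx y _
    have h1 := Subgroup.eq_bot_of_card_eq (S : Subgroup G) (by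
      rw [S.card_eq_multiplicity, Nat.factorization_eq_zero_of_not_dvd hd, pow_zero])
    rw [h1, Subgroup.mem_bot] at hx
    rw [hx]
    exact Commute.one_left y

namespace Triple

variable (T : Triple G a b c) (hcb : ¬ c ∣ b) (hns : ¬ Group.IsSolvable G)
include T hcb hns

theorem index_center_b {r : ℕ} (hrc : r ∣ c) (hrb : r ∣ b) {u : G} (hu : u ≠ 1)
    (hn : ¬ r ∣ (C u).index) : (C u).index = a :=
  (T.index_center_c hcb hrc hu hn).resolve_right fun e => hn (e ▸ hrb)

/-- Commuting elements of class size `a` sharing a Sylow subgroup for a prime of `b`. -/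
theorem eq_of_aa {p q t : ℕ} (hp : p.Prime) (hq : q.Prime) [Fact t.Prime] (hne : p ≠ q) {x y : G}
    (hx : IsPEl p x) (hy : IsPEl q y) (hxa : (C x).index = a) (hya : (C y).index = a)
    (hc : Commute x y) (htb : t ∣ b) (P : Sylow t G) (hPx : (P : Subgroup G) ≤ C x)
    (hPy : (P : Subgroup G) ≤ C y) : C x = C y := by
  obtain ⟨he, h1, -, hs⟩ := T.mul_size hp hq hne hx hy (T.ne_one T.ha hxa) hc
  rw [hxa] at h1
  rcases hs with e | e | e
  · rw [← eq_of_le_of_index (he.le.trans inf_le_left) (e.trans hxa.symm),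
      ← eq_of_le_of_index (he.le.trans inf_le_right) (e.trans hya.symm)]
  · exact absurd (htb.trans (e ▸ Subgroup.index_dvd_of_le (he ▸ le_inf hPx hPy)))
      P.not_dvd_index
  · exact absurd (e ▸ h1) T.ac

theorem le_of_b' {q : ℕ} {g h : G} (hg : (C g).index = b) (hh : IsPEl q h) (hc : Commute g h)
    (ho : (orderOf g).Coprime (orderOf h)) : C g ≤ C h := by
  have h1 := (index_C_mul hc ho).1
  rw [hg] at h1
  rcases T.size _ (mul_ne_one_of_coprime ho (T.ne_one T.hb hg)) with e | e | e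
  · exact absurd (e ▸ h1) T.ba
  · rw [← eq_of_le_of_index ((C_mul hc ho).le.trans inf_le_left) (e.trans hg.symm), C_mul hc ho]
    exact inf_le_right
  · exact absurd (e ▸ h1) T.bc

variable {r s : ℕ} (hr : r.Prime) (hs : s.Prime) (hrs : r ≠ s) {x y : G} (hx : IsPEl r x)
  (hy : IsPEl s y) (hxa : (C x).index = a) (heq : C x = C y)
include hr hs hrs hx hy hxa heq

theorem prime_c_of_mem {p : ℕ} (hp : p.Prime) {w : G} (hw : IsPEl p w) (hw1 : w ≠ 1)
    (hwx : w ∈ C x) : p ∣ c := by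
  haveI := Fact.mk hp
  have hd : p ∣ Nat.card G := by
    obtain ⟨j, hj⟩ := hw
    have hj0 : j ≠ 0 := fun e => hw1 (orderOf_eq_one_iff.mp (by rw [hj, e, pow_zero]))
    exact (dvd_pow_self p hj0).trans (hj ▸ orderOf_dvd_natCard w)
  exact (T.cover_one hcb hp hd).resolve_left fun h => hw1
    (T.not_mem_a_prime hcb hns hr hp h hx (T.ne_one T.ha hxa) (Or.inl hxa) hw hwx)

theorem size_mem {p : ℕ} (hp : p.Prime) {w : G} (hw : IsPEl p w) (hwx : w ∈ C x) :
    C x ≤ C w ∨ (C x ⊓ C w).index = b := by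
  by_cases hw1 : w = 1
  · exact Or.inl fun g _ => mem_C.mpr (hw1 ▸ Commute.one_right g)
  obtain ⟨q, e, hq, he, hea, hqp, hCe⟩ : ∃ (q : ℕ) (e : G), q.Prime ∧ IsPEl q e ∧
      (C e).index = a ∧ q ≠ p ∧ C e = C x := by
    by_cases hrp : r = p
    · exact ⟨s, y, hs, hy, heq ▸ hxa, fun e => hrs (hrp.trans e.symm), heq.symm⟩
    · exact ⟨r, x, hr, hx, hxa, hrp, rfl⟩
  obtain ⟨hm, h1, -, hsz⟩ := T.mul_size hq hp hqp he hw (T.ne_one T.ha hea)
    (mem_C.mp (hCe ▸ hwx)).symm
  rw [hea] at h1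
  rw [hCe] at hm
  rcases hsz with e' | e' | e'
  · left
    rw [← eq_of_le_of_index (hm.le.trans inf_le_left) (e'.trans hxa.symm), hm]
    exact inf_le_right
  · exact Or.inr (hm ▸ e')
  · exact absurd (e' ▸ h1) T.ac

theorem pair {p q t : ℕ} (hp : p.Prime) (hq : q.Prime) (ht : t.Prime) (hpq : p ≠ q) (htp : t ≠ p)
    (htq : t ≠ q) {v w e : G} (hv : IsPEl p v) (hw : IsPEl q w) (he : IsPEl t e)
    (hvx : v ∈ C x) (hwx : w ∈ C x) (hCe : C e = C x) (hc : Commute v w)
    (hvZ : ¬ C x ≤ C v) : C x ⊓ C v ≤ C w := by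
  have hcev : Commute e v := (mem_C.mp (hCe ▸ hvx)).symm
  have hoev := coprime_of_ne ht hp htp he hv
  have hb : (C (e * v)).index = b := by
    rw [C_mul hcev hoev, hCe]
    exact (T.size_mem hcb hns hr hs hrs hx hy hxa heq hp hv hvx).resolve_left hvZ
  have hle := T.le_of_b' hcb hns hb hw ((mem_C.mp (hCe ▸ hwx)).symm.mul_left hc) (by
    rw [hcev.orderOf_mul_eq_mul_orderOf_of_coprime hoev]
    exact Nat.Coprime.mul_left (coprime_of_ne ht hq htq he hw) (coprime_of_ne hp hq hpq hv hw))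
  rwa [C_mul hcev hoev, hCe] at hle

theorem mem_center_iff' {w : C x} : w ∈ Subgroup.center (C x) ↔ C x ≤ C (w : G) := by
  rw [Subgroup.mem_center_iff]
  exact ⟨fun h g hg => mem_C.mpr (congrArg Subtype.val (h ⟨g, hg⟩)),
    fun h g => Subtype.ext (mem_C.mp (h g.2)).eq⟩

omit T hcb hns hr hs hrs hy heq hx in
theorem index_sub (w : C x) : (C w).index * a = (C x ⊓ C (w : G)).index := by
  have h : C w = (C (w : G)).subgroupOf (C x) := by
    ext g
    rw [Subgroup.mem_subgroupOf, mem_C, mem_C]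
    exact ⟨fun h => congrArg Subtype.val h.eq, fun h => Subtype.ext h⟩
  rw [h, ← Subgroup.relIndex, ← Subgroup.inf_relIndex_left, ← hxa,
    Subgroup.relIndex_mul_index inf_le_left]

theorem index_sub_cases {p : ℕ} (hp : p.Prime) {w : C x} (hw : IsPEl p w)
    (hwZ : w ∉ Subgroup.center (C x)) : (C w).index * a = b := by
  rw [index_sub hxa]
  exact (T.size_mem hcb hns hr hs hrs hx hy hxa heq hp (isPEl_coe.mpr hw) w.2).resolve_left
    fun h => hwZ ((T.mem_center_iff' hcb hns hr hs hrs hx hy hxa heq).mpr h)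

/-- If commuting non-central elements of coprime prime power orders have equal centralisers, the
centraliser is nilpotent: impossible. -/
theorem false_of_pairs
    (hpair : ∀ (p q : ℕ) (v w : G), p.Prime → q.Prime → p ≠ q → IsPEl p v → IsPEl q w →
      v ∈ C x → w ∈ C x → Commute v w → ¬ C x ≤ C v → ¬ C x ≤ C w → C x ⊓ C v ≤ C w) : False := by
  refine T.not_nilpotent_a hcb hns hxa ?_
  have hZ : Subgroup.center (C x) ≠ ⊤ := fun h => T.not_nilpotent_a hcb hns hxa (by
    exact isNilpotent_of_central hr fun q _ _ v hv _ w hw => show v * w = w * v from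
      (congrArg Subtype.val (Subgroup.mem_center_iff.mp
        (h ▸ Subgroup.mem_top (⟨v, hv⟩ : C x)) ⟨w, hw⟩)).symm)
  have hE : CfsgLib.TwoClassSizes.Equi (⊤ : Subgroup (C x)) (b / a) := by
    intro g _ hgZ
    show (C g).index = b / a
    obtain ⟨p, y₀, hp, hy₀, hy₀p, hy₀Z⟩ : ∃ (p : ℕ) (y₀ : C x), p.Prime ∧
        y₀ ∈ Subgroup.zpowers g ∧ IsPEl p y₀ ∧ y₀ ∉ Subgroup.center (C x) := by
      by_contra hcon
      push Not at hcon
      exact hgZ (mem_of_parts fun z hz p hp hzp => hcon p z hp hz hzp)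
    haveI := Fact.mk hp
    obtain ⟨v, hv, hvp, hvgen⟩ := exists_pGen g p
    have hvZ : v ∉ Subgroup.center (C x) := fun h =>
      hy₀Z ((Subgroup.zpowers_le.mpr h) (hvgen _ hy₀ hy₀p))
    have heqC : C g = C v := by
      refine le_antisymm (C_le_of_mem_zpowers hv) fun h hh => ?_
      rw [mem_C]
      have hall : g ∈ C h := mem_of_parts fun z hz q hq hzq => by
        rw [mem_C]
        by_cases hqp : q = p
        · subst hqp
          obtain ⟨i, rfl⟩ := hvgen z hz hzq
          exact ((mem_C.mp hh).zpow_right i).symm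
        by_cases hzZ : z ∈ Subgroup.center (C x)
        · exact (Subgroup.mem_center_iff.mp hzZ h).symm
        have hcvz : Commute v z := by
          obtain ⟨i, rfl⟩ := hv
          obtain ⟨j, rfl⟩ := hz
          exact Commute.zpow_zpow_self g i j
        have hle := hpair p q (v : G) (z : G) hp hq (Ne.symm hqp) (isPEl_coe.mpr hvp)
          (isPEl_coe.mpr hzq) v.2 z.2 (congrArg Subtype.val hcvz.eq)
          (fun e => hvZ ((T.mem_center_iff' hcb hns hr hs hrs hx hy hxa heq).mpr e))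
          (fun e => hzZ ((T.mem_center_iff' hcb hns hr hs hrs hx hy hxa heq).mpr e))
        have := hle ⟨h.2, mem_C.mpr (congrArg Subtype.val (mem_C.mp hh).eq)⟩
        exact Subtype.ext (mem_C.mp this).symm.eq
      exact (mem_C.mp hall).symm
    rw [heqC, ← T.index_sub_cases hcb hns hr hs hrs hx hy hxa heq hp hvp hvZ,
      Nat.mul_div_cancel _ (by linarith [T.ha])]
  obtain ⟨t, ht, htd⟩ := Nat.exists_prime_and_dvd
    (fun h => hZ (Subgroup.index_eq_one.mp h))
  haveI := Fact.mk ht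
  obtain ⟨R⟩ : Nonempty (Sylow t (C x)) := inferInstance
  have hR : ¬ (R : Subgroup (C x)) ≤ Subgroup.center (C x) := fun h =>
    R.not_dvd_index (htd.trans (Subgroup.index_dvd_of_le h))
  haveI := (CfsgLib.TwoClassSizes.isPGroup_quotient_center R hE le_top hR).isNilpotent
  haveI : Group.IsNilpotent (⊤ : Subgroup (C x)) :=
    Subgroup.isNilpotent_of_ker_le_center
      (QuotientGroup.mk' (Subgroup.center (⊤ : Subgroup (C x)))) (QuotientGroup.ker_mk' _).le
  exact Group.nilpotent_of_mulEquiv (Subgroup.topEquiv (G := C x))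

theorem false_of_third {t : ℕ} (ht : t.Prime) (htr : t ≠ r) (hts : t ≠ s) {z : G} (hz : IsPEl t z)
    (hCz : C z = C x) : False := by
  refine T.false_of_pairs hcb hns hr hs hrs hx hy hxa heq
    fun p q v w hp hq hpq hv hw hvx hwx hc hvZ _ => ?_
  by_cases h1 : r ≠ p ∧ r ≠ q
  · exact T.pair hcb hns hr hs hrs hx hy hxa heq hp hq hr hpq h1.1 h1.2 hv hw hx hvx hwx rfl hc hvZ
  by_cases h2 : s ≠ p ∧ s ≠ q
  · exact T.pair hcb hns hr hs hrs hx hy hxa heq hp hq hs hpq h2.1 h2.2 hv hw hy hvx hwx heq.symm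
      hc hvZ
  · refine T.pair hcb hns hr hs hrs hx hy hxa heq hp hq ht hpq ?_ ?_ hv hw hz hvx hwx hCz hc hvZ
    · rintro rfl
      grind
    · rintro rfl
      grind

theorem dvd_k {p : ℕ} (hp : p.Prime) {k : ℕ} (hk : k * a = b) (hpb : p ∣ b) (hpa : ¬ p ∣ a) :
    p ∣ k :=
  (hp.dvd_mul.mp (hk.symm ▸ hpb)).resolve_right hpa

/-- The partner of an `r`-element in the centraliser. -/
theorem exists_partner (hsb : s ∣ b) (hra : ¬ r ∣ a) (hsa : ¬ s ∣ a) (hsc : s ∣ c) {u : C x}
    (hu : IsPEl r u) (huZ : u ∉ Subgroup.center (C x)) :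
    ∃ e : C x, IsPEl s e ∧ e ∉ Subgroup.center (C x) ∧ C u = C e := by
  haveI := Fact.mk hs
  haveI := Fact.mk hr
  have hu' : IsPEl r (u : G) := isPEl_coe.mpr hu
  have hu1 : (u : G) ≠ 1 := fun e => huZ ((Subtype.ext e : u = 1) ▸ one_mem _)
  have hrc : r ∣ c := T.prime_c_of_mem hcb hns hr hs hrs hx hy hxa heq hr hu' hu1 u.2
  have hfin : ∀ e : C x, C x ⊓ C (e : G) = C x ⊓ C (u : G) → IsPEl s e →
      e ∉ Subgroup.center (C x) ∧ C u = C e := by
    intro e he hes
    constructor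
    · intro hZ
      refine huZ ((T.mem_center_iff' hcb hns hr hs hrs hx hy hxa heq).mpr ?_)
      have := (T.mem_center_iff' hcb hns hr hs hrs hx hy hxa heq).mp hZ
      intro g hg
      exact (he ▸ ⟨hg, this hg⟩ : g ∈ C x ⊓ C (u : G)).2
    · ext g
      have h1 := SetLike.ext_iff.mp he (g : G)
      simp only [Subgroup.mem_inf, g.2, true_and, mem_C] at h1
      rw [mem_C, mem_C]
      exact ⟨fun h => Subtype.ext (h1.mpr (congrArg Subtype.val h.eq)).eq,
        fun h => Subtype.ext (h1.mp (congrArg Subtype.val h.eq)).eq⟩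
  rcases T.index_c_prime hcb hr hrc hu' hu1 with hua | hub
  · obtain ⟨P, hP⟩ := exists_sylow_le (p := s) (H := C (u : G)) (hua ▸ hsa)
    obtain ⟨e, he1, hes, heP, hPe, hen⟩ :=
      exists_center_sylow (T.dvd_card_c hsc) P
    have hea := T.index_center_b hcb hns hsc hsb he1 hen
    have hue : C (u : G) = C e :=
      T.eq_of_aa hcb hns hr hs hrs hu' hes hua hea (mem_C.mp (hP heP)).symm hsb P hP hPe
    have hex : e ∈ C x := mem_C_symm (hue ▸ mem_C_symm u.2)
    exact ⟨⟨e, hex⟩, isPEl_coe.mp hes, hfin ⟨e, hex⟩ (by rw [hue]) (isPEl_coe.mp hes)⟩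
  · obtain ⟨v, hv, hvZ⟩ : ∃ v : C x, IsPEl s v ∧ v ∉ Subgroup.center (C x) := by
      by_contra hcon
      push Not at hcon
      obtain ⟨S⟩ : Nonempty (Sylow s (C x)) := inferInstance
      have hle : (S : Subgroup (C x)) ≤ C u := fun g hg =>
        center_le_C u (hcon g (isPEl_of_isPGroup S.2 hg))
      exact S.not_dvd_index ((T.dvd_k hcb hns hr hs hrs hx hy hxa heq hs
        (T.index_sub_cases hcb hns hr hs hrs hx hy hxa heq hr hu huZ) hsb hsa).trans
        (Subgroup.index_dvd_of_le hle))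
    obtain ⟨e, heu, hes, heZ⟩ : ∃ e ∈ C u, IsPEl s e ∧ e ∉ Subgroup.center (C x) := by
      by_contra hcon
      push Not at hcon
      obtain ⟨S, hS, hSp, hSc⟩ := CfsgLib.ClassSizesThree.exists_sylow_of_le (p := s) (C u)
      have hSZ : S ≤ Subgroup.center (C x) := fun g hg =>
        hcon g (hS hg) (isPEl_of_isPGroup hSp hg)
      have hlt := CfsgLib.ClassSizesThree.vp_lt (p := s) (hSZ.trans (center_le_C v))
        (self_mem_C v) hv (fun h => hvZ (hSZ h))
        fun g hg => Subgroup.mem_center_iff.mp (hSZ hg) v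
      have hidx : (C u).index = (C v).index := Nat.eq_of_mul_eq_mul_right (by linarith [T.ha])
        ((T.index_sub_cases hcb hns hr hs hrs hx hy hxa heq hr hu huZ).trans
          (T.index_sub_cases hcb hns hr hs hrs hx hy hxa heq hs hv hvZ).symm)
      have hcard : Nat.card (C u) = Nat.card (C v) := by
        have h1 := (C u).card_mul_index
        rw [hidx, ← (C v).card_mul_index] at h1
        exact Nat.eq_of_mul_eq_mul_right (Nat.pos_of_ne_zero Subgroup.index_ne_zero_of_finite) h1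
      unfold CfsgLib.ClassSizesThree.vp at hlt hSc
      rw [hSc, Nat.Prime.factorization_pow hs, Finsupp.single_eq_same, hcard] at hlt
      exact lt_irrefl _ hlt
    refine ⟨e, hes, heZ, (hfin e ?_ hes).2⟩
    have hxu : C x ⊓ C (u : G) = C (u : G) :=
      eq_of_le_of_index inf_le_right (by
        rw [← index_sub hxa, T.index_sub_cases hcb hns hr hs hrs hx hy hxa heq hr hu huZ, hub])
    have hle : C (u : G) ≤ C x ⊓ C (e : G) := le_inf (hxu ▸ inf_le_left)
      (T.le_of_b' hcb hns hub (isPEl_coe.mpr hes) (congrArg Subtype.val (mem_C.mp heu).symm.eq)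
        (coprime_of_ne hr hs hrs hu' (isPEl_coe.mpr hes)))
    rw [hxu]
    refine (eq_of_le_of_index hle ?_).symm
    rw [hub, ← index_sub hxa, T.index_sub_cases hcb hns hr hs hrs hx hy hxa heq hs hes heZ]

theorem false_of_equal (hrb : r ∣ b) : False := by
  haveI := Fact.mk hr
  haveI := Fact.mk hs
  have hx1 := T.ne_one T.ha hxa
  have hya : (C y).index = a := heq ▸ hxa
  have hrc : r ∣ c := T.prime_dvd_c_of_ab hcb hns hr hx hx1 (Or.inl hxa)
  have hsc : s ∣ c := T.prime_dvd_c_of_ab hcb hns hs hy (T.ne_one T.ha hya) (Or.inl hya)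
  have hna : ∀ p : ℕ, p.Prime → p ∣ c → ¬ p ∣ a := fun p hp h h' => T.not_both hp h' h
  by_cases h3 : ∃ (t : ℕ) (z : G), t.Prime ∧ t ≠ r ∧ t ≠ s ∧ IsPEl t z ∧ C z = C x
  · obtain ⟨t, z, ht, htr, hts, hz, hCz⟩ := h3
    exact T.false_of_third hcb hns hr hs hrs hx hy hxa heq ht htr hts hz hCz
  push Not at h3
  have hnb : ∀ t : ℕ, t.Prime → t ∣ c → t ≠ r → t ≠ s → ¬ t ∣ b := by
    intro t ht htc htr hts htb
    haveI := Fact.mk ht
    obtain ⟨P, hP⟩ := exists_sylow_le (p := t) (H := C x) (hxa ▸ hna t ht htc)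
    obtain ⟨z, hz1, hzt, hzP, hPz, hzn⟩ := exists_center_sylow (T.dvd_card_c htc) P
    exact h3 t z ht htr hts hzt (T.eq_of_aa hcb hns hr ht htr.symm hx hzt hxa
      (T.index_center_b hcb hns htc htb hz1 hzn) (mem_C.mp (hP hzP)).symm htb P hP hPz).symm
  by_cases hq : ∃ (t : ℕ) (z : G), t.Prime ∧ t ≠ r ∧ t ≠ s ∧ IsPEl t z ∧ z ∈ C x ∧ ¬ C x ≤ C z
  · obtain ⟨t, z, ht, htr, hts, hz, hzx, hzZ⟩ := hq
    haveI := Fact.mk ht
    have hz1 : z ≠ 1 := fun e => hzZ fun g _ => mem_C.mpr (e ▸ Commute.one_right g)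
    have htc : t ∣ c := T.prime_c_of_mem hcb hns hr hs hrs hx hy hxa heq ht hz hz1 hzx
    refine T.false_of_pairs hcb hns hr hs hrs hx hy hxa heq
      fun p q v w hp hq hpq hv hw hvx hwx hc hvZ hwZ => ?_
    by_cases h1 : r ≠ p ∧ r ≠ q
    · exact T.pair hcb hns hr hs hrs hx hy hxa heq hp hq hr hpq h1.1 h1.2 hv hw hx hvx hwx rfl hc
        hvZ
    by_cases h2 : s ≠ p ∧ s ≠ q
    · exact T.pair hcb hns hr hs hrs hx hy hxa heq hp hq hs hpq h2.1 h2.2 hv hw hy hvx hwx
        heq.symm hc hvZ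
    have hpc : t ≠ p := by grind
    have hqc : t ≠ q := by grind
    have hwb : (C x ⊓ C w).index = b :=
      (T.size_mem hcb hns hr hs hrs hx hy hxa heq hq hw hwx).resolve_left hwZ
    obtain ⟨P, hP⟩ := exists_sylow_le (p := t) (H := C x ⊓ C w) (hwb ▸ hnb t ht htc htr hts)
    obtain ⟨z', hz'P, hz'Z⟩ : ∃ z' ∈ (P : Subgroup G), ¬ C x ≤ C z' := by
      by_contra hcon
      push Not at hcon
      obtain ⟨Q, hQle, hzQ⟩ := exists_sylow_le_mem (H := C x) (hxa ▸ hna t ht htc) hz hzx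
      obtain ⟨g, hg⟩ := MulAction.exists_smul_eq (C x) (P.subtype (hP.trans inf_le_left))
        (Q.subtype hQle)
      apply hzZ
      have hzQ' : (⟨z, hzx⟩ : C x) ∈ ((g • P.subtype (hP.trans inf_le_left) : Sylow t (C x)) :
          Subgroup (C x)) := by
        rw [hg, Sylow.coe_subtype]
        exact hzQ
      rw [Sylow.coe_subgroup_smul, Subgroup.mem_pointwise_smul_iff_inv_smul_mem,
        Sylow.coe_subtype, Subgroup.mem_subgroupOf] at hzQ'
      have hz' := hcon _ hzQ'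
      intro h hh
      have := (mem_C.mp (hz' (mul_mem (mul_mem (inv_mem g.2) hh) g.2))).eq
      refine mem_C.mpr ?_
      have e : ((((MulAut.conj g)⁻¹ • ⟨z, hzx⟩ : C x)) : G) = (g : G)⁻¹ * z * g := by
        simp [MulAut.smul_def]
      rw [e] at this
      show h * z = z * h
      calc h * z = (g : G) * (((g : G)⁻¹ * h * g) * ((g : G)⁻¹ * z * g)) * (g : G)⁻¹ := by group
        _ = (g : G) * (((g : G)⁻¹ * z * g) * ((g : G)⁻¹ * h * g)) * (g : G)⁻¹ := by rw [this]
        _ = z * h := by group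
    have hz'x : z' ∈ C x := (hP hz'P).1
    have hz't := isPEl_of_isPGroup P.2 hz'P
    have hwz : Commute w z' := (mem_C.mp (hP hz'P).2).symm
    obtain ⟨E, eE, hE, heE, hCeE, hEt, hEq⟩ : ∃ (E : ℕ) (e : G), E.Prime ∧ IsPEl E e ∧
        C e = C x ∧ E ≠ t ∧ E ≠ q := by
      by_cases hrq : r = q
      · exact ⟨s, y, hs, hy, heq.symm, hts.symm, fun e => hrs (hrq.trans e.symm)⟩
      · exact ⟨r, x, hr, hx, rfl, htr.symm, hrq⟩
    have hle1 : C x ⊓ C w ≤ C z' := T.pair hcb hns hr hs hrs hx hy hxa heq hq ht hE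
      hqc.symm hEq hEt hw hz't heE hwx hz'x hCeE hwz hwZ
    have hle2 : C x ⊓ C z' ≤ C w := T.pair hcb hns hr hs hrs hx hy hxa heq ht hq hE
      hqc hEt hEq hz't hw heE hz'x hwx hCeE hwz.symm hz'Z
    have hvz : Commute v z' := mem_C.mp (hle1 ⟨hvx, mem_C.mpr hc⟩)
    obtain ⟨F, eF, hF, heF, hCeF, hFt, hFp⟩ : ∃ (F : ℕ) (e : G), F.Prime ∧ IsPEl F e ∧
        C e = C x ∧ F ≠ t ∧ F ≠ p := by
      by_cases hrp : r = p
      · exact ⟨s, y, hs, hy, heq.symm, hts.symm, fun e => hrs (hrp.trans e.symm)⟩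
      · exact ⟨r, x, hr, hx, rfl, htr.symm, hrp⟩
    have hle3 : C x ⊓ C v ≤ C z' := T.pair hcb hns hr hs hrs hx hy hxa heq hp ht hF
      hpc.symm hFp hFt hv hz't heF hvx hz'x hCeF hvz hvZ
    exact fun g hg => hle2 ⟨hg.1, hle3 hg⟩
  push Not at hq
  have hcen : ∀ (t : ℕ) (w : C x), t.Prime → t ≠ r → t ≠ s → IsPEl t w →
      w ∈ Subgroup.center (C x) := fun t w ht htr hts hw =>
    (T.mem_center_iff' hcb hns hr hs hrs hx hy hxa heq).mpr
      (hq t w ht htr hts (isPEl_coe.mpr hw) w.2)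
  have hsize : ∀ {p : ℕ}, p.Prime → ∀ {w : C x}, IsPEl p w → w ∉ Subgroup.center (C x) →
      (C w).index * a = b :=
    fun {p} hp {w} => T.index_sub_cases hcb hns hr hs hrs hx hy hxa heq hp
  by_cases hsb : s ∣ b
  · refine false_of_partner (W := C x) hr hs hrs ?_ ?_ ?_ ?_ ?_ ?_
    · intro t ht htd
      by_contra hcon
      push Not at hcon
      haveI := Fact.mk ht
      obtain ⟨v, hv, hvZ⟩ := CfsgLib.ClassSizesThree.exists_pEl_notMem htd
      exact hvZ (hcen t v ht hcon.1 hcon.2 hv)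
    · intro h
      refine T.not_nilpotent_a hcb hns hxa ?_
      exact isNilpotent_of_central hr fun q _ _ v hv _ w hw => show v * w = w * v from
        (congrArg Subtype.val (Subgroup.mem_center_iff.mp
          (h ▸ Subgroup.mem_top (⟨v, hv⟩ : C x)) ⟨w, hw⟩)).symm
    · exact fun u hu huZ => T.exists_partner hcb hns hr hs hrs hx hy hxa heq hsb (hna r hr hrc)
        (hna s hs hsc) hsc hu huZ
    · intro u hu huZ
      revert u
      rw [heq]
      intro u hu huZ
      exact T.exists_partner hcb hns hs hr hrs.symm hy hx hya heq.symm hrb (hna s hs hsc)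
        (hna r hr hrc) hrc hu huZ
    · exact fun u hu huZ => T.dvd_k hcb hns hr hs hrs hx hy hxa heq hr (hsize hr hu huZ) hrb
        (hna r hr hrc)
    · exact fun u hu huZ => T.dvd_k hcb hns hr hs hrs hx hy hxa heq hs (hsize hs hu huZ) hsb
        (hna s hs hsc)
  have hpow : ∀ w : C x, IsPEl s w → ∃ i : ℕ, (C w).index = r ^ i := by
    intro w hw
    by_cases hwZ : w ∈ Subgroup.center (C x)
    · exact ⟨0, by rw [pow_zero, index_C_eq_one_iff]; exact hwZ⟩
    refine ⟨_, Nat.eq_prime_pow_of_unique_prime_dvd Subgroup.index_ne_zero_of_finite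
      fun {t} ht htd => ?_⟩
    have htb : t ∣ b := htd.trans ⟨a, (hsize hs hw hwZ).symm⟩
    have htc : t ∣ c := by
      refine htd.trans ((Subgroup.index_dvd_card _).trans ?_)
      rw [T.card_C_a hcb hns hxa]
    by_contra htr
    by_cases hts : t = s
    · exact hsb (hts ▸ htb)
    · exact hnb t ht htc htr hts htb
  obtain ⟨S⟩ : Nonempty (Sylow s (C x)) := inferInstance
  have hall : ∀ g : C x, ∃ Q : Sylow s (C x), (Q : Subgroup (C x)) ≤ C g := by
    intro g
    obtain ⟨u, hu, hur, hugen⟩ := exists_pGen g r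
    obtain ⟨e, he, hes, hegen⟩ := exists_pGen g s
    have hnd : ¬ s ∣ (C u).index := by
      by_cases huZ : u ∈ Subgroup.center (C x)
      · rw [index_C_eq_one_iff.mpr huZ]; exact hs.not_dvd_one
      · exact fun h => hsb (h.trans ⟨a, (hsize hr hur huZ).symm⟩)
    obtain ⟨Q, hQ, heQ⟩ := exists_sylow_le_mem hnd hes (mem_C.mpr (by
      obtain ⟨i, rfl⟩ := hu
      obtain ⟨j, rfl⟩ := he
      exact Commute.zpow_zpow_self g j i))
    refine ⟨Q, fun q hq' => mem_C.mpr ?_⟩
    have hg : g ∈ C q := mem_of_parts fun z hz t ht hzt => by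
      rw [mem_C]
      by_cases htr : t = r
      · subst htr
        obtain ⟨i, rfl⟩ := hugen z hz hzt
        exact ((mem_C.mp (hQ hq')).zpow_right i).symm
      by_cases hts : t = s
      · subst hts
        obtain ⟨i, rfl⟩ := hegen z hz hzt
        exact sylow_comm hr hrs hpow Q _ (zpow_mem heQ i) _ hq'
      exact (Subgroup.mem_center_iff.mp (hcen t z ht htr hts hzt) q).symm
    exact (mem_C.mp hg).symm
  have hSZ := sylow_le_center S hall
  have hscen : ∀ w : G, IsPEl s w → w ∈ C x → C x ≤ C w := by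
    intro w hw hwx
    refine (T.mem_center_iff' hcb hns hr hs hrs hx hy hxa heq (w := ⟨w, hwx⟩)).mp ?_
    obtain ⟨Q, hwQ⟩ := exists_sylow_mem (isPEl_coe.mp hw : IsPEl s (⟨w, hwx⟩ : C x))
    obtain ⟨g, hg⟩ := MulAction.exists_smul_eq (C x) S Q
    rw [← hg, Sylow.coe_subgroup_smul, Subgroup.mem_pointwise_smul_iff_inv_smul_mem] at hwQ
    have h1 := hSZ hwQ
    rw [← map_inv, MulAut.smul_def, MulAut.conj_apply] at h1
    have := (inferInstance : (Subgroup.center (C x)).Normal).conj_mem _ h1 g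
    simpa [mul_assoc] using this
  refine T.false_of_pairs hcb hns hr hs hrs hx hy hxa heq
    fun p q v w hp hq hpq hv hw hvx hwx hc hvZ hwZ => ?_
  have hps : p ≠ s := fun e => hvZ (hscen v (e ▸ hv) hvx)
  have hqs : q ≠ s := fun e => hwZ (hscen w (e ▸ hw) hwx)
  exact T.pair hcb hns hr hs hrs hx hy hxa heq hp hq hs hpq hps.symm hqs.symm hv hw hy hvx hwx
    heq.symm hc hvZ

end Triple

end CfsgLib.ClassSizesFour
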