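import Cfsg.Agent.Lib.ClassSizesFour.Equal
import Cfsg.Agent.Lib.ClassSizesFour.Counting
import Cfsg.Agent.Lib.CNStruct.Radical

/-!
Class sizes `1, a, b, c` with `a ∣ b` and trivial centre: the group is solvable.
-/

set_option autoImplicit false
set_option linter.unusedSectionVars false
set_option linter.style.haveILetI false

namespace CfsgLib.ClassSizesFour

open CfsgLib.ClassSizesThree (C mem_C self_mem_C mem_C_symm C_le_of_mem_zpowers C_mul IsPEl
  isPEl_of_isPGroup C_conj center_le_C)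

variable {G : Type*} [Group G] [Finite G] {a b c : ℕ}

theorem prime_dvd_card_of_pEl {p : ℕ} (hp : p.Prime) {w : G} (hw : IsPEl p w) (hw1 : w ≠ 1) :
    p ∣ Nat.card G := by
  obtain ⟨j, hj⟩ := hw
  have hj0 : j ≠ 0 := fun e => hw1 (orderOf_eq_one_iff.mp (by rw [hj, e, pow_zero]))
  exact (dvd_pow_self p hj0).trans (hj ▸ orderOf_dvd_natCard w)

/-- A centraliser all of whose prime power elements are central is abelian. -/
theorem comm_of_parts {H : Subgroup G}
    (h : ∀ w ∈ H, ∀ p : ℕ, p.Prime → IsPEl p w → H ≤ C w) :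
    ∀ x ∈ H, ∀ y ∈ H, Commute x y := by
  intro x hx y hy
  have hy' : y ∈ C x := mem_of_parts fun z hz p hp hzp =>
    mem_C_symm (h z ((Subgroup.zpowers_le.mpr hy) hz) p hp hzp hx)
  exact (mem_C.mp hy').symm

/-- A normal subgroup whose order has only prime divisors prime to the index of `H` lies in `H`. -/
theorem le_of_primes (N H : Subgroup G) [N.Normal]
    (h : ∀ p : ℕ, p.Prime → p ∣ Nat.card N → ¬ p ∣ H.index) : N ≤ H := by
  refine inf_eq_left.mp (Subgroup.eq_of_le_of_card_ge inf_le_left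
    (Nat.le_of_dvd Nat.card_pos (dvd_of_factorization Nat.card_pos.ne' Nat.card_pos.ne'
      fun p hp hd => ?_)))
  haveI := Fact.mk hp
  rw [factorization_inf N H (h p hp hd)]

theorem isSolvable_of_commutator (h : Group.IsSolvable (commutator G)) : Group.IsSolvable G := by
  haveI := h
  haveI : Group.IsSolvable (G ⧸ commutator G) :=
    Group.isSolvable_of_comm fun x y =>
      mul_comm (G := Abelianization G) x y
  exact Group.isSolvable_of_ker_le_range (commutator G).subtype (QuotientGroup.mk' (commutator G))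
    (by rw [QuotientGroup.ker_mk', Subgroup.range_subtype])

namespace Triple

variable (T : Triple G a b c) (hcb : ¬ c ∣ b) (hns : ¬ Group.IsSolvable G)
include T hcb hns

theorem exists_common_prime : ∃ r : ℕ, r.Prime ∧ r ∣ b ∧ r ∣ c := by
  by_contra hno
  push Not at hno
  obtain ⟨g, hg⟩ := T.exb
  have hbG : b ∣ Nat.card G := hg ▸ Subgroup.index_dvd_card _
  refine T.ba (dvd_of_factorization (by linarith [T.hb]) (by linarith [T.ha]) fun p hp hpb => ?_)
  rw [T.factorization_a hcb hns hp ((T.cover_one hcb hp (hpb.trans hbG)).resolve_right (hno p hp hpb))]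
  exact (Nat.factorization_le_iff_dvd (by linarith [T.hb]) Nat.card_pos.ne').mpr hbG p

theorem isPGroup_C_c {q : ℕ} [hq : Fact q.Prime] (honly : ∀ p : ℕ, p.Prime → p ∣ a → p = q)
    {z : G} (hz : (C z).index = c) : IsPGroup q (C z) :=
  IsPGroup.of_card (n := a.primeFactorsList.length) (by
    rw [T.card_C_c hcb hns hz]
    exact Nat.eq_prime_pow_of_unique_prime_dvd (by linarith [T.ha]) fun hp hd => honly _ hp hd)

/-- With two primes in `a`, the centraliser of an element of class size `c` is abelian. -/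
theorem comm_C_c_multi (hmulti : ∀ q : ℕ, q.Prime → ∃ p : ℕ, p.Prime ∧ p ∣ a ∧ p ≠ q) {q : ℕ}
    (hq : q.Prime) {z : G} (hz : IsPEl q z) (hzc : (C z).index = c) :
    ∀ x ∈ C z, ∀ y ∈ C z, Commute x y := by
  refine comm_of_parts fun w hw t ht hwt => ?_
  by_cases hw1 : w = 1
  · exact fun g _ => mem_C.mpr (hw1 ▸ Commute.one_right g)
  by_cases htq : t = q
  · subst htq
    obtain ⟨p, hp, hpa, hpt⟩ := hmulti t ht
    haveI := Fact.mk hp
    obtain ⟨P, hP⟩ := exists_sylow_le (p := p) (H := C z) (hzc ▸ fun h => T.not_both hp hpa h)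
    obtain ⟨u, hu1, hup, huP, -, -⟩ := exists_center_sylow (T.dvd_card_a hpa) P
    obtain ⟨huc, heu⟩ := T.eq_of_c hcb ht hp hpt.symm hz hup hzc hu1 (mem_C.mp (hP huP)).symm
    obtain ⟨-, hew⟩ := T.eq_of_c hcb hp ht hpt hup hwt huc hw1 (mem_C.mp (heu ▸ hw)).symm
    exact (heu.trans hew).le
  · exact (T.eq_of_c hcb hq ht (Ne.symm htq) hz hwt hzc hw1 (mem_C.mp hw).symm).2.le

/-- With one prime in `a`, a Sylow subgroup for it is abelian. -/
theorem comm_C_c_single {r : ℕ} (hr : r.Prime) {x : G} (hxa : (C x).index = a)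
    (hX : Group.IsSolvable (C x)) {q : ℕ} [hq : Fact q.Prime]
    (honly : ∀ p : ℕ, p.Prime → p ∣ a → p = q) {z : G} (hz : IsPEl q z) (hzc : (C z).index = c) :
    ∀ u ∈ C z, ∀ v ∈ C z, Commute u v := by
  have hqa : q ∣ a := by
    obtain ⟨p, hp, hpa⟩ := Nat.exists_prime_and_dvd (show a ≠ 1 by linarith [T.ha])
    exact honly p hp hpa ▸ hpa
  have hz1 := T.ne_one T.hc hzc
  obtain ⟨j, hj⟩ : ∃ j, a = q ^ j :=
    ⟨_, Nat.eq_prime_pow_of_unique_prime_dvd (by linarith [T.ha]) fun hp hd => honly _ hp hd⟩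
  have hcl : (ConjClasses.mk x).carrier.ncard = q ^ j := by
    rw [← hj, ← hxa, CfsgLib.Blocks.index_centralizer_eq_card, ← Nat.card_coe_set_eq]
    exact Nat.card_congr (Equiv.subtypeEquivRight fun u => by
      rw [ConjClasses.mem_carrier_iff_mk_eq, ConjClasses.mk_eq_mk_iff_isConj]
      exact isConj_comm)
  have hs := Cfsg.Agent.S4037.result x hq.out j hcl
  have hne : Subgroup.normalClosure ({x} : Set G) ≠ ⊥ := fun e => T.ne_one T.ha hxa
    (Subgroup.mem_bot.mp (e ▸ Subgroup.subset_normalClosure rfl))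
  obtain ⟨p, hp, V, hVn, hV1, -, hVp, hVab⟩ :=
    CfsgLib.CNStruct.exists_abelian_normal _ hs hne
  haveI := hVn
  haveI := hp
  have hPg : ∀ e : G, IsPEl q e → e ≠ 1 → (C e).index = c ∧ IsPGroup q (C e) := fun e he he1 =>
    have := T.index_a_prime hcb hns hq.out hqa he he1
    ⟨this, T.isPGroup_C_c hcb hns honly this⟩
  by_cases hpq : p = q
  · subst hpq
    obtain ⟨u, hu, hu1⟩ := (Subgroup.bot_or_exists_ne_one V).resolve_left hV1
    obtain ⟨huc, hup⟩ := hPg u (isPEl_of_isPGroup hVp hu) hu1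
    have hall : ∀ e : G, IsPEl p e → e ∈ C u := by
      intro e he
      by_cases he1 : e = 1
      · rw [he1]; exact one_mem _
      obtain ⟨hec, hep⟩ := hPg e he he1
      obtain ⟨Q, hQ⟩ := exists_sylow_le (p := p) (H := C e)
        (hec ▸ fun h => T.not_both hq.out hqa h)
      have hVQ : V ≤ (Q : Subgroup G) :=
        le_sup_left.trans (Q.is_maximal' (hVp.to_sup_of_normal_left Q.2) le_sup_right).le
      exact mem_C_symm (hQ (hVQ hu))
    have hmem : ∀ e : G, e ∈ C u ↔ IsPEl p e := fun e =>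
      ⟨fun h => isPEl_of_isPGroup hup h, hall e⟩
    haveI : (C u).Normal := ⟨fun e he g => (hmem _).mpr ((hmem e).mp he |>.conj g)⟩
    refine absurd ?_ hns
    haveI := hup.isNilpotent
    haveI : Group.IsSolvable (G ⧸ C u) := by
      haveI := hX
      have hsurj : Function.Surjective ((QuotientGroup.mk' (C u)).comp (C x).subtype) := by
        intro g
        obtain ⟨g, rfl⟩ := QuotientGroup.mk'_surjective (C u) g
        have h := Subgroup.isComplement'_of_coprime (H := C x) (K := C u)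
          (by rw [T.card_C_a hcb hns hxa, T.card_C_c hcb hns huc, mul_comm,
            T.card_one hcb hns])
          (by rw [T.card_C_a hcb hns hxa, T.card_C_c hcb hns huc]; exact T.cop.symm)
        obtain ⟨⟨y, w⟩, hyw⟩ := h.2 g
        refine ⟨y, ?_⟩
        show (QuotientGroup.mk (y : G) : G ⧸ C u) = QuotientGroup.mk g
        rw [QuotientGroup.eq, ← hyw]
        simp
      exact Group.isSolvable_of_surjective hsurj
    exact Group.isSolvable_of_ker_le_range (C u).subtype (QuotientGroup.mk' (C u))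
      (by rw [QuotientGroup.ker_mk', Subgroup.range_subtype])
  letI : CommGroup V :=
    { (inferInstance : Group V) with mul_comm := fun x y => Subtype.ext (hVab x x.2 y y.2) }
  have hfpf : ∀ e : G, IsPEl q e → e ≠ 1 → ∀ v ∈ V, Commute e v → v = 1 := by
    intro e he he1 v hv hc
    by_contra hv1
    exact hpq (pEl_prime_unique hp.out hq.out (isPEl_of_isPGroup hVp hv)
      (isPEl_of_isPGroup (hPg e he he1).2 (mem_C.mpr hc.symm)) hv1)
  have hcyc : ∀ u v : G, u ^ q = 1 → v ^ q = 1 → Commute u v → v ≠ 1 →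
      u ∈ Subgroup.zpowers v := by
    intro u v hu hv huv hv1
    by_contra hnot
    obtain ⟨w, hw, hw1⟩ := (Subgroup.bot_or_exists_ne_one V).resolve_left hV1
    let φ : G →* MulAut V := MulAut.conjNormal
    have key := pow_eq_one_of_free hq.out (φ u) (φ v) (huv.map φ) (by rw [← map_pow, hu, map_one])
      (by rw [← map_pow, hv, map_one]) ?_ (⟨w, hw⟩ : V)
    · have h1 : w ^ q = 1 := congrArg Subtype.val key
      exact hpq (pEl_prime_unique hp.out hq.out (isPEl_of_isPGroup hVp hw)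
        (IsPEl.of_pow (j := 1) (by rw [pow_one]; exact h1)) hw1)
    intro i k hi hk hik y hy
    rw [← map_pow, ← map_pow, ← map_mul] at hy
    have hne1 : u ^ i * v ^ k ≠ 1 := by
      intro e
      rcases Nat.eq_zero_or_pos i with hi0 | hi0
      · rw [hi0, pow_zero, one_mul] at e
        have hk0 : 0 < k := Nat.pos_of_ne_zero (hik.resolve_left (fun h => h hi0))
        have ho : orderOf v = q := orderOf_eq_prime hv hv1
        have := Nat.le_of_dvd hk0 (ho ▸ orderOf_dvd_of_pow_eq_one e)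
        omega
      · apply hnot
        have hcop : i.Coprime (orderOf u) := by
          rcases (Nat.dvd_prime hq.out).mp (orderOf_dvd_of_pow_eq_one hu) with h | h <;> rw [h]
          · exact Nat.coprime_one_right i
          · exact ((hq.out.coprime_iff_not_dvd).mpr fun h' =>
              absurd (Nat.le_of_dvd hi0 h') (not_le.mpr hi)).symm
        obtain ⟨m, hm⟩ := exists_pow_eq_self_of_coprime hcop
        rw [← hm]
        refine Subgroup.pow_mem _ ?_ _
        rw [mul_eq_one_iff_eq_inv.mp e]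
        exact inv_mem (Subgroup.pow_mem _ (Subgroup.mem_zpowers v) _)
    refine Subtype.ext (hfpf _ ?_ hne1 y y.2 ?_)
    · refine IsPEl.of_pow (j := 1) ?_
      rw [pow_one, (huv.pow_pow i k).mul_pow, ← pow_mul, ← pow_mul, mul_comm i, mul_comm k, pow_mul,
        pow_mul, hu, hv, one_pow, one_pow, one_mul]
    · have e' : (u ^ i * v ^ k) * (y : G) * (u ^ i * v ^ k)⁻¹ = y := congrArg Subtype.val hy
      exact mul_inv_eq_iff_eq_mul.mp e'
  have hzP : IsPGroup q (C z) := (hPg z hz hz1).2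
  obtain ⟨P, hP⟩ := exists_sylow_le (p := q) (H := C z) (hzc ▸ fun h => T.not_both hq.out hqa h)
  have hPC : (P : Subgroup G) = C z := (P.is_maximal' hzP hP).symm
  obtain ⟨z', hz'1, hz'q, hz'P, hPz', -⟩ := exists_center_sylow (T.dvd_card_a hqa) P
  obtain ⟨n, hn⟩ := hz'q
  have hn0 : n ≠ 0 := fun e => hz'1 (orderOf_eq_one_iff.mp (by rw [hn, e, pow_zero]))
  set z₁ := z' ^ q ^ (n - 1) with hz₁
  have hz₁q : z₁ ^ q = 1 := by
    rw [hz₁, ← pow_mul, ← pow_succ, Nat.sub_add_cancel (Nat.pos_of_ne_zero hn0), ← hn,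
      pow_orderOf_eq_one]
  have hz₁1 : z₁ ≠ 1 := fun e => by
    have := Nat.le_of_dvd (pow_pos hq.out.pos _) (orderOf_dvd_of_pow_eq_one e)
    rw [hn] at this
    exact absurd this (not_le.mpr (Nat.pow_lt_pow_right hq.out.one_lt (by omega)))
  have hz₁P : z₁ ∈ (P : Subgroup G) := Subgroup.pow_mem _ hz'P _
  have hPz₁ : (P : Subgroup G) ≤ C z₁ :=
    hPz'.trans (C_le_of_mem_zpowers (Subgroup.pow_mem _ (Subgroup.mem_zpowers z') _))
  refine comm_of_parts fun u hu t ht hut => ?_
  by_cases hu1 : u = 1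
  · exact fun g _ => mem_C.mpr (hu1 ▸ Commute.one_right g)
  have htq := pEl_prime_unique ht hq.out hut (isPEl_of_isPGroup hzP hu) hu1
  subst htq
  obtain ⟨m, hm⟩ := hut
  have hm0 : m ≠ 0 := fun e => hu1 (orderOf_eq_one_iff.mp (by rw [hm, e, pow_zero]))
  set u₁ := u ^ t ^ (m - 1) with hu₁
  have hu₁t : u₁ ^ t = 1 := by
    rw [hu₁, ← pow_mul, ← pow_succ, Nat.sub_add_cancel (Nat.pos_of_ne_zero hm0), ← hm,
      pow_orderOf_eq_one]
  have hu₁1 : u₁ ≠ 1 := fun e => by
    have := Nat.le_of_dvd (pow_pos hq.out.pos _) (orderOf_dvd_of_pow_eq_one e)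
    rw [hm] at this
    exact absurd this (not_le.mpr (Nat.pow_lt_pow_right hq.out.one_lt (by omega)))
  have hu₁P : u₁ ∈ (P : Subgroup G) := Subgroup.pow_mem _ (hPC ▸ hu) _
  have hmem := hcyc z₁ u₁ hz₁q hu₁t (mem_C.mp (hPz₁ hu₁P)).symm hu₁1
  obtain ⟨hz₁c, hz₁g⟩ := hPg z₁ (isPEl_of_isPGroup P.2 hz₁P) hz₁1
  obtain ⟨huc, -⟩ := hPg u ⟨m, hm⟩ hu1
  have hCz₁ : C z₁ = C z := hPC ▸ P.is_maximal' hz₁g hPz₁
  have hle : C u ≤ C z₁ := C_le_of_mem_zpowers
    (Subgroup.zpowers_le.mpr (Subgroup.pow_mem _ (Subgroup.mem_zpowers u) _) hmem)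
  have := eq_of_le_of_index hle (huc.trans hz₁c.symm)
  rw [this, hCz₁]

theorem false_of_one : False := by
  obtain ⟨r, hr, hrb, hrc⟩ := T.exists_common_prime hcb hns
  haveI := Fact.mk hr
  have hna : ∀ p : ℕ, p.Prime → p ∣ c → ¬ p ∣ a := fun p hp h h' => T.not_both hp h' h
  obtain ⟨R⟩ : Nonempty (Sylow r G) := inferInstance
  obtain ⟨x, hx1, hx, -, hRx, hxn⟩ := exists_center_sylow (T.dvd_card_c hrc) R
  have hxa := T.index_center_b hcb hns hrc hrb hx1 hxn
  have hnoa : ∀ (s : ℕ) (v : G), s.Prime → s ≠ r → IsPEl s v → (C v).index ≠ a := by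
    intro s v hs hsr hv hva
    haveI := Fact.mk hs
    obtain ⟨P, hP⟩ := exists_sylow_le (p := r) (H := C v) (hva ▸ hna r hr hrc)
    obtain ⟨u, hu1, hu, huP, hPu, hun⟩ := exists_center_sylow (T.dvd_card_c hrc) P
    have hua := T.index_center_b hcb hns hrc hrb hu1 hun
    exact T.false_of_equal hcb hns hr hs hsr.symm hu hv hua
      (T.eq_of_aa hcb hns hr hs hsr.symm hu hv hua hva (mem_C.mp (hP huP)) hrb P hPu hP) hrb
  have hnb : ∀ t : ℕ, t.Prime → t ∣ c → t ≠ r → ¬ t ∣ b := by
    intro t ht htc htr htb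
    haveI := Fact.mk ht
    obtain ⟨P⟩ : Nonempty (Sylow t G) := inferInstance
    obtain ⟨u, hu1, hu, -, -, hun⟩ := exists_center_sylow (T.dvd_card_c htc) P
    exact hnoa t u ht htr hu (T.index_center_b hcb hns htc htb hu1 hun)
  have hvb : ∀ (t : ℕ) (v : G), t.Prime → t ∣ c → t ≠ r → IsPEl t v → v ≠ 1 →
      (C v).index = b := fun t v ht htc htr hv hv1 =>
    (T.index_c_prime hcb ht htc hv hv1).resolve_left (hnoa t v ht htr hv)
  have hX : ∀ (t : ℕ), t.Prime → t ≠ r → ∀ w : C x, IsPEl t w → ∃ i : ℕ, (C w).index = r ^ i := by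
    intro t ht htr w hw
    have hw' : IsPEl t (w : G) := isPEl_coe.mpr hw
    obtain ⟨he, h1, -, hs⟩ := T.mul_size hr ht htr.symm hx hw' hx1 (mem_C.mp w.2).symm
    rw [hxa] at h1
    have hidx := index_sub hxa w
    rw [← he] at hidx
    rcases hs with e | e | e <;> rw [e] at hidx
    · refine ⟨0, ?_⟩
      rw [pow_zero]
      exact (mul_left_eq_self₀.mp hidx).resolve_right (by linarith [T.ha])
    · refine ⟨_, Nat.eq_prime_pow_of_unique_prime_dvd Subgroup.index_ne_zero_of_finite
        fun {p} hp hd => ?_⟩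
      have hpc : p ∣ c := hd.trans ((Subgroup.index_dvd_card _).trans (by
        rw [T.card_C_a hcb hns hxa]))
      by_contra hpr
      exact hnb p hp hpc hpr (hd.trans ⟨a, hidx.symm⟩)
    · exact absurd (e ▸ h1) T.ac
  have hXsol : Group.IsSolvable (C x) := isSolvable_of_pow_index hr hX
  obtain ⟨s₀, hs₀, hs₀c, hs₀r⟩ : ∃ s : ℕ, s.Prime ∧ s ∣ c ∧ s ≠ r := by
    by_contra hno
    push Not at hno
    refine T.not_nilpotent_a hcb hns hxa (IsPGroup.of_card (p := r)
      (n := c.primeFactorsList.length) ?_).isNilpotent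
    rw [T.card_C_a hcb hns hxa]
    exact Nat.eq_prime_pow_of_unique_prime_dvd (by linarith [T.hc]) fun hp hd => hno _ hp hd
  have hab : ∀ t : ℕ, [Fact t.Prime] → t ∣ c → t ≠ r → ∀ (P : Sylow t G),
      ∀ u ∈ (P : Subgroup G), ∀ v ∈ (P : Subgroup G), Commute u v := by
    intro t htf htc htr P u hu v hv
    obtain ⟨S, hS⟩ := exists_sylow_le (p := t) (H := C x) (hxa ▸ hna t htf.out htc)
    obtain ⟨g, hg⟩ := MulAction.exists_smul_eq G P S
    have hm : ∀ y ∈ (P : Subgroup G), g * y * g⁻¹ ∈ (S : Subgroup G) := fun y hy => by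
      rw [← hg, Sylow.coe_subgroup_smul]
      exact Subgroup.smul_mem_pointwise_smul y (MulAut.conj g) _ hy
    have := sylow_comm hr htr.symm (hX t htf.out htr) (S.subtype hS)
      ⟨_, hS (hm u hu)⟩ (by rw [Sylow.coe_subtype]; exact hm u hu)
      ⟨_, hS (hm v hv)⟩ (by rw [Sylow.coe_subtype]; exact hm v hv)
    have h2 : Commute (g * u * g⁻¹) (g * v * g⁻¹) := congrArg Subtype.val this.eq
    exact (Commute.conj_iff g).mp h2
  have hDab : ∀ (t : ℕ) (v : G), t.Prime → t ∣ c → t ≠ r → IsPEl t v → v ≠ 1 →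
      ∀ y ∈ C v, ∀ z ∈ C v, Commute y z := by
    intro t v ht htc htr hv hv1
    haveI := Fact.mk ht
    have hvb' := hvb t v ht htc htr hv hv1
    have hother : ∀ (u : ℕ) (w : G), u.Prime → u ≠ t → IsPEl u w → w ∈ C v → C v ≤ C w :=
      fun u w hu hut hw hwv =>
        T.le_of_b ht hu (Ne.symm hut) hv hw hvb' (mem_C.mp hwv).symm
    obtain ⟨S⟩ : Nonempty (Sylow t (C v)) := inferInstance
    have hall : ∀ g : C v, ∃ Q : Sylow t (C v), (Q : Subgroup (C v)) ≤ C g := by
      intro g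
      obtain ⟨e, he, het, hegen⟩ := exists_pGen g t
      obtain ⟨Q, hQle, heQ⟩ := exists_sylow_le_mem (H := C v) (hvb' ▸ hnb t ht htc htr)
        (isPEl_coe.mpr het) e.2
      refine ⟨Q.subtype hQle, fun q hq' => mem_C.mpr ?_⟩
      rw [Sylow.coe_subtype] at hq'
      have hg : g ∈ C q := mem_of_parts fun z hz u hu hzu => by
        rw [mem_C]
        by_cases hut : u = t
        · subst hut
          obtain ⟨i, rfl⟩ := hegen z hz hzu
          have : ((e : G) ^ i) ∈ (Q : Subgroup G) := zpow_mem heQ i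
          exact Subtype.ext (by
            simpa using (hab u htc htr Q _ this _ hq').eq)
        · exact Subtype.ext (mem_C.mp (hother u z hu hut (isPEl_coe.mpr hzu) z.2 q.2)).symm.eq
      exact (mem_C.mp hg).symm
    have hSZ := sylow_le_center S hall
    refine comm_of_parts fun w hw u hu hwu => ?_
    by_cases hut : u = t
    · subst hut
      obtain ⟨Q, hwQ⟩ := exists_sylow_mem (isPEl_coe.mp hwu : IsPEl u (⟨w, hw⟩ : C v))
      obtain ⟨g, hg⟩ := MulAction.exists_smul_eq (C v) S Q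
      rw [← hg, Sylow.coe_subgroup_smul, Subgroup.mem_pointwise_smul_iff_inv_smul_mem] at hwQ
      have h1 := hSZ hwQ
      rw [← map_inv, MulAut.smul_def, MulAut.conj_apply] at h1
      have h2 := (inferInstance : (Subgroup.center (C v)).Normal).conj_mem _ h1 g
      have h3 : (⟨w, hw⟩ : C v) ∈ Subgroup.center (C v) := by simpa [mul_assoc] using h2
      exact fun y hy => mem_C.mpr (congrArg Subtype.val (Subgroup.mem_center_iff.mp h3 ⟨y, hy⟩))
    · exact hother u w hu hut hwu hw
  haveI := Fact.mk hs₀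
  obtain ⟨P₀⟩ : Nonempty (Sylow s₀ G) := inferInstance
  obtain ⟨v₀, hv₀1, hv₀, -, -, -⟩ := exists_center_sylow (T.dvd_card_c hs₀c) P₀
  have hv₀b := hvb s₀ v₀ hs₀ hs₀c hs₀r hv₀ hv₀1
  have hD := hDab s₀ v₀ hs₀ hs₀c hs₀r hv₀ hv₀1
  obtain ⟨q₀, z₀, hq₀, hz₀, hz₀c⟩ := T.exists_c
  haveI := Fact.mk hq₀
  have hM : ∀ u ∈ C z₀, ∀ v ∈ C z₀, Commute u v := by
    by_cases hmulti : ∀ q : ℕ, q.Prime → ∃ p : ℕ, p.Prime ∧ p ∣ a ∧ p ≠ q
    · exact T.comm_C_c_multi hcb hns hmulti hq₀ hz₀ hz₀c
    · push Not at hmulti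
      obtain ⟨q, hq, honly⟩ := hmulti
      have hqq := honly q₀ hq₀ (T.prime_dvd_a_of_c hcb hns hq₀ hz₀ hz₀c)
      subst hqq
      exact T.comm_C_c_single hcb hns hr hxa hXsol honly hz₀ hz₀c
  have hMidx : ∀ q : ℕ, q.Prime → q ∣ a → ¬ q ∣ (C z₀).index := fun q hq hqa h =>
    T.not_both hq hqa (hz₀c ▸ h)
  have hDidx : ∀ t : ℕ, t.Prime → t ∣ c → t ≠ r → ¬ t ∣ (C v₀).index := fun t ht htc htr =>
    hv₀b ▸ hnb t ht htc htr
  have hcov_v : ∀ (t : ℕ) (v h : G), t.Prime → t ∣ c → t ≠ r → IsPEl t v → v ≠ 1 → h ∈ C v →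
      ∃ g : G, g * h * g⁻¹ ∈ C v₀ := fun t v h ht htc htr hv hv1 hh =>
    haveI := Fact.mk ht
    exists_conj_le_C hD (hDidx t ht htc htr) hv ((hvb t v ht htc htr hv hv1).trans hv₀b.symm) hh
  have hcov : ∀ g : G, g ≠ 1 →
      (∃ h : G, h * g * h⁻¹ ∈ C z₀) ∨ ∃ h : G, h * g * h⁻¹ ∈ C v₀ := by
    intro g hg
    by_cases hpart : ∃ (p : ℕ) (y : G), p.Prime ∧ y ∈ Subgroup.zpowers g ∧ IsPEl p y ∧ y ≠ 1 ∧
        (C y).index ≠ a
    · obtain ⟨p, y, hp, hy, hyp, hy1, hya⟩ := hpart
      haveI := Fact.mk hp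
      have hgy : g ∈ C y := C_le_of_mem_zpowers hy (self_mem_C g)
      have hpd := prime_dvd_card_of_pEl hp hyp hy1
      rcases T.cover_one hcb hp hpd with hpa | hpc
      · exact Or.inl (exists_conj_le_C hM (hMidx p hp hpa) hyp
          ((T.index_a_prime hcb hns hp hpa hyp hy1).trans hz₀c.symm) hgy)
      · by_cases hpr : p = r
        · subst hpr
          have hyb := (T.index_c_prime hcb hp hpc hyp hy1).resolve_left hya
          have hs₀y : s₀ ∣ Nat.card (C y) := by
            have h1 := (T.dvd_card_c hs₀c)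
            rw [← (C y).card_mul_index, hyb] at h1
            exact (hs₀.dvd_mul.mp h1).resolve_right (hnb s₀ hs₀ hs₀c hs₀r)
          obtain ⟨⟨v, hv⟩, ho⟩ := exists_prime_orderOf_dvd_card' s₀ hs₀y
          rw [Subgroup.orderOf_mk] at ho
          have hvel : IsPEl s₀ v := ⟨1, by rw [ho, pow_one]⟩
          have hv1 : v ≠ 1 := fun e => by rw [e, orderOf_one] at ho; exact hs₀.ne_one ho.symm
          exact Or.inr (hcov_v s₀ v g hs₀ hs₀c hs₀r hvel hv1
            (T.le_of_b hp hs₀ hs₀r.symm hyp hvel hyb (mem_C.mp hv).symm hgy))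
        · exact Or.inr (hcov_v p y g hp hpc hpr hyp hy1 hgy)
    · push Not at hpart
      obtain ⟨y, hy, hyr, hygen⟩ := exists_pGen g r
      have hgy : g ∈ Subgroup.zpowers y := mem_of_parts fun z hz p hp hzp => by
        by_cases hz1 : z = 1
        · rw [hz1]; exact one_mem _
        have hza := hpart p z hp hz hzp hz1
        by_cases hpr : p = r
        · subst hpr; exact hygen z hz hzp
        · exact absurd hza (hnoa p z hp hpr hzp)
      have hy1 : y ≠ 1 := fun e => hg (by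
        rw [e, Subgroup.zpowers_one_eq_bot, Subgroup.mem_bot] at hgy; exact hgy)
      have hya := hpart r y hr hy hyr hy1
      obtain ⟨P, hP⟩ := exists_sylow_le (p := s₀) (H := C y) (hya ▸ hna s₀ hs₀ hs₀c)
      obtain ⟨v, hv1, hv, hvP, -, -⟩ := exists_center_sylow (T.dvd_card_c hs₀c) P
      exact Or.inr (hcov_v s₀ v g hs₀ hs₀c hs₀r hv hv1
        ((Subgroup.zpowers_le.mpr (mem_C_symm (hP hvP))) hgy))
  have hcentM : ∀ {t : ℕ} [Fact t.Prime] {P : Sylow t G} {D : Subgroup G}, t ∣ Nat.card G →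
      (∀ u ∈ D, ∀ v ∈ D, Commute u v) → (P : Subgroup G) ≤ D →
      (∀ u : G, IsPEl t u → u ≠ 1 → (C u).index = D.index) →
      Subgroup.centralizer ((P : Subgroup G) : Set G) ≤ D := by
    intro t _ P D htd hDc hPD hsz y hy
    obtain ⟨u, hu1, hu, huP, -, -⟩ := exists_center_sylow htd P
    have hle : D ≤ C u := fun z hz => mem_C.mpr (hDc z hz u (hPD huP))
    rw [eq_of_le_of_index hle (hsz u hu hu1).symm]
    exact mem_C.mpr (Subgroup.mem_centralizer_iff.mp hy u huP).symm
  refine false_of_cover (C z₀) (C v₀) ?_ ?_ hcov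
  · refine lt_of_le_not_ge Subgroup.le_normalizer fun hN => hns (isSolvable_of_commutator ?_)
    have hle : commutator G ≤ C x := le_of_primes _ _ fun p hp hd hpa => by
      rw [hxa] at hpa
      haveI := Fact.mk hp
      obtain ⟨P, hP⟩ := exists_sylow_le (p := p) (H := C z₀) (hMidx p hp hpa)
      exact not_dvd_commutator P hP hM (hcentM (T.dvd_card_a hpa) hM hP fun u hu hu1 =>
        (T.index_a_prime hcb hns hp hpa hu hu1).trans hz₀c.symm) hN hd
    haveI := hXsol
    exact Group.isSolvable_of_isSolvable_injective (Subgroup.inclusion_injective hle)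
  · refine lt_of_le_not_ge Subgroup.le_normalizer fun hN => hns (isSolvable_of_commutator ?_)
    have hpr : ∀ t : ℕ, t.Prime → t ∣ Nat.card (commutator G) → t ∣ a ∨ t = r := by
      intro t ht hd
      rcases T.cover_one hcb ht (hd.trans (Subgroup.card_subgroup_dvd_card _)) with h | h
      · exact Or.inl h
      refine Or.inr ?_
      by_contra htr
      haveI := Fact.mk ht
      obtain ⟨P, hP⟩ := exists_sylow_le (p := t) (H := C v₀) (hDidx t ht h htr)
      exact not_dvd_commutator P hP hD (hcentM (T.dvd_card_c h) hD hP fun u hu hu1 =>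
        (hvb t u ht h htr hu hu1).trans hv₀b.symm) hN hd
    set N := commutator G
    set A := (N ⊓ C z₀ : Subgroup G).subgroupOf N with hA
    set B := (N ⊓ (R : Subgroup G)).subgroupOf N with hB
    have hAn : Group.IsNilpotent A := by
      haveI : Group.IsNilpotent (C z₀) := T.nilpotent_c hcb hq₀ hz₀ hz₀c
      exact Group.nilpotent_of_mulEquiv
        ((Subgroup.subgroupOfEquivOfLe (inf_le_right : N ⊓ C z₀ ≤ C z₀)).trans
          (Subgroup.subgroupOfEquivOfLe (inf_le_left : N ⊓ C z₀ ≤ N)).symm)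
    have hBn : Group.IsNilpotent B :=
      (((R.2.to_le (inf_le_right : N ⊓ (R : Subgroup G) ≤ R))).of_equiv
        (Subgroup.subgroupOfEquivOfLe inf_le_left).symm).isNilpotent
    have hcA : Nat.card A = Nat.card (N ⊓ C z₀ : Subgroup G) :=
      Nat.card_congr (Subgroup.subgroupOfEquivOfLe inf_le_left).toEquiv
    have hcB : Nat.card B = Nat.card (N ⊓ (R : Subgroup G) : Subgroup G) :=
      Nat.card_congr (Subgroup.subgroupOfEquivOfLe inf_le_left).toEquiv
    have hdA : Nat.card A ∣ a := by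
      rw [hcA, ← T.card_C_c hcb hns hz₀c]
      exact Subgroup.card_dvd_of_le inf_le_right
    have hdB : Nat.card B ∣ r ^ (Nat.card G).factorization r := by
      rw [hcB, ← R.card_eq_multiplicity]
      exact Subgroup.card_dvd_of_le inf_le_right
    have hcop : (Nat.card A).Coprime (Nat.card B) :=
      Nat.Coprime.coprime_dvd_left hdA (Nat.Coprime.coprime_dvd_right hdB
        (Nat.Coprime.pow_right _ (Nat.coprime_comm.mp ((hr.coprime_iff_not_dvd).mpr (hna r hr hrc)))))
    refine isSolvable_of_card_mul A B hAn hBn hcop (Nat.dvd_antisymm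
      (hcop.mul_dvd_of_dvd_of_dvd (Subgroup.card_subgroup_dvd_card _)
        (Subgroup.card_subgroup_dvd_card _)) (dvd_of_factorization Nat.card_pos.ne'
          (Nat.mul_ne_zero Nat.card_pos.ne' Nat.card_pos.ne') fun p hp hd => ?_))
    haveI := Fact.mk hp
    rw [Nat.factorization_mul Nat.card_pos.ne' Nat.card_pos.ne', Finsupp.add_apply, hcA, hcB]
    rcases hpr p hp hd with h | h
    · rw [factorization_inf N (C z₀) (hMidx p hp h)]
      exact Nat.le_add_right _ _
    · subst h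
      rw [factorization_inf N (R : Subgroup G) R.not_dvd_index]
      exact Nat.le_add_left _ _

omit hcb hns in
/-- A group with class sizes `1, a, b, c`, `a ∣ b` and trivial centre, `b ≠ a * c`: impossible
unless solvable. -/
theorem isSolvable : Group.IsSolvable G := by
  by_contra hns
  by_cases hcb : c ∣ b
  · exact T.false_of_two hcb
  · exact T.false_of_one hcb hns

end Triple

end CfsgLib.ClassSizesFour
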