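import Cfsg.Agent.Lib.ClassSizesFour.Basic
import Cfsg.Agent.S4351
import Cfsg.Agent.S0205
import Cfsg.Agent.S0144
import Cfsg.Agent.S0494
import Cfsg.Agent.Lib.CNSimple.CIT
import Cfsg.Agent.Lib.CIT.Iso
import Cfsg.Agent.Lib.AutOrbits.Lists
import Cfsg.Agent.Lib.Invol.SelfNormalizingPSL

/-!
Non-solvable groups with trivial centre in which no centraliser is properly contained in another.
-/

set_option autoImplicit false
set_option linter.unusedSectionVars false
set_option linter.style.haveILetI false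

namespace CfsgLib.ClassSizesFour

open CfsgLib.ClassSizesThree (C mem_C self_mem_C mem_C_symm C_le_of_mem_zpowers C_mul IsPEl
  isPEl_of_isPGroup C_conj)
open Matrix
open scoped MatrixGroups

variable (G : Type*) [Group G] [Finite G]

/-- No centraliser of a non-identity element is properly contained in another. -/
def Flat : Prop := ∀ g h : G, g ≠ 1 → h ≠ 1 → C g ≤ C h → C g = C h

variable {G}

namespace Flat

variable (hF : Flat G)
include hF

theorem isCN : Cfsg.IsCNGroup G := by
  intro g hg
  obtain ⟨p, x, hp, hx, hxp, hx1⟩ := exists_part hg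
  show Group.IsNilpotent (C g)
  rw [hF g x hg hx1 (C_le_of_mem_zpowers hx)]
  refine isNilpotent_of_central hp fun q hq hne v hv hvq w hw => ?_
  by_cases hv1 : v = 1
  · rw [hv1]; exact Commute.one_left w
  have ho := coprime_of_ne hp hq hne.symm hxp hvq
  have hm := C_mul (mem_C.mp hv).symm ho
  have := hF (x * v) x (mul_ne_one_of_coprime ho hx1) hx1 (hm.le.trans inf_le_left)
  exact (mem_C.mp ((hm ▸ this.ge.trans le_rfl : C x ≤ C x ⊓ C v) hw).2).symm

theorem commute_of_pow {u w : G} {j : ℕ} (hu : u ^ j ≠ 1) (hw : Commute w (u ^ j)) :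
    Commute w u := by
  have hu1 : u ≠ 1 := fun e => hu (by rw [e, one_pow])
  have h := hF u (u ^ j) hu1 hu
    (C_le_of_mem_zpowers (Subgroup.pow_mem _ (Subgroup.mem_zpowers u) j))
  exact mem_C.mp (h ▸ mem_C.mpr hw)

theorem sylow_two_comm (P : Sylow 2 G) :
    ∀ x ∈ (P : Subgroup G), ∀ y ∈ (P : Subgroup G), Commute x y := by
  have hinv : ∀ v ∈ (P : Subgroup G), ∀ w ∈ (P : Subgroup G), v * v = 1 → w * w = 1 →
      Commute v w := by
    intro v hv w hw hv2 hw2
    have hv' : v⁻¹ = v := inv_eq_of_mul_eq_one_right hv2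
    have hw' : w⁻¹ = w := inv_eq_of_mul_eq_one_right hw2
    obtain ⟨k, hk⟩ := isPEl_of_isPGroup P.2 (mul_mem hv hw)
    have hconj : v * (v * w) * v⁻¹ = (v * w)⁻¹ := by
      rw [_root_.mul_inv_rev, ← mul_assoc, hv2, one_mul, hw']
    rcases le_or_gt k 1 with hk1 | hk1
    · have hsq : (v * w) ^ 2 = 1 := orderOf_dvd_iff_pow_eq_one.mp
        (hk ▸ (pow_dvd_pow 2 hk1).trans (by norm_num))
      show v * w = w * v
      have := eq_inv_of_mul_eq_one_left ((pow_two (v * w)).symm.trans hsq)
      rwa [_root_.mul_inv_rev, hv', hw'] at this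
    · set z := (v * w) ^ 2 ^ (k - 1) with hz
      have hzne : z ≠ 1 := fun e => by
        have := Nat.le_of_dvd (Nat.two_pow_pos _) (orderOf_dvd_of_pow_eq_one e)
        rw [hk] at this
        exact absurd this (not_le.mpr (Nat.pow_lt_pow_right (by norm_num) (by omega)))
      have hz2 : z * z = 1 := by
        rw [hz, ← pow_add, ← two_mul, ← pow_succ', Nat.sub_add_cancel (by omega), ← hk,
          pow_orderOf_eq_one]
      have hzc : Commute v z := by
        have e : v * z * v⁻¹ = z := by
          rw [hz, ← conj_pow, hconj, inv_pow, ← hz]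
          exact inv_eq_of_mul_eq_one_right hz2
        exact mul_inv_eq_iff_eq_mul.mp e
      have hc := (hF.commute_of_pow hzne hzc).eq
      show v * w = w * v
      calc v * w = v * (v * w) * v⁻¹ * (v * v) := by rw [hc, hv2]; group
        _ = (v * w)⁻¹ := by rw [hconj, hv2, mul_one]
        _ = w * v := by rw [_root_.mul_inv_rev, hv', hw']
  have hpow : ∀ u ∈ (P : Subgroup G), u ≠ 1 → ∃ j : ℕ, u ^ j ≠ 1 ∧ u ^ j * u ^ j = 1 := by
    intro u hu hu1
    obtain ⟨k, hk⟩ := isPEl_of_isPGroup P.2 hu
    have hk0 : k ≠ 0 := fun e => hu1 (orderOf_eq_one_iff.mp (by rw [hk, e, pow_zero]))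
    refine ⟨2 ^ (k - 1), fun e => ?_, ?_⟩
    · have := Nat.le_of_dvd (Nat.two_pow_pos _) (orderOf_dvd_of_pow_eq_one e)
      rw [hk] at this
      exact absurd this (not_le.mpr (Nat.pow_lt_pow_right (by norm_num) (by omega)))
    · rw [← pow_add, ← two_mul, ← pow_succ', Nat.sub_add_cancel (by omega), ← hk,
        pow_orderOf_eq_one]
  have h3 : ∀ v ∈ (P : Subgroup G), ∀ u ∈ (P : Subgroup G), v * v = 1 → Commute v u := by
    intro v hv u hu hv2
    by_cases hu1 : u = 1
    · rw [hu1]; exact Commute.one_right v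
    obtain ⟨j, hj, hj2⟩ := hpow u hu hu1
    exact hF.commute_of_pow hj (hinv v hv _ (pow_mem hu j) hv2 hj2)
  intro x hx y hy
  by_cases hy1 : y = 1
  · rw [hy1]; exact Commute.one_right x
  obtain ⟨j, hj, hj2⟩ := hpow y hy hy1
  exact hF.commute_of_pow hj (h3 _ (pow_mem hy j) x hx hj2).symm

theorem false_of_witness {M : Type*} [Group M] (f : M →* G) (hf : Function.Injective f) (u w : M)
    (j : ℕ) (hu : u ^ j ≠ 1) (hw : Commute w (u ^ j)) (hne : ¬ Commute w u) : False := by
  refine hne ?_
  have h := hF.commute_of_pow (u := f u) (w := f w) (j := j)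
    (by rw [← map_pow]; exact fun e => hu (hf (e.trans (map_one f).symm)))
    (by rw [← map_pow]; exact hw.map f)
  exact hf (by rw [map_mul, map_mul]; exact h.eq)

omit hF in
theorem psl_witness {F : Type} [Field F] [Fintype F] (h2 : IsSquare (2 : F)) (hodd : (2 : F) ≠ 0) :
    ∃ u w : ProjectiveSpecialLinearGroup (Fin 2) F, u ^ 2 ≠ 1 ∧ Commute w (u ^ 2) ∧
      ¬ Commute w u := by
  obtain ⟨s, hs⟩ := h2
  have hs0 : s ≠ 0 := fun e => hodd (by rw [hs, e, mul_zero])
  set e := s⁻¹ with he
  have he2 : 2 * (e * e) = 1 := by rw [hs, he]; field_simp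
  have he0 : e ≠ 0 := inv_ne_zero hs0
  haveI : NeZero (ringChar F) := ⟨CharP.ringChar_ne_zero_of_finite F⟩
  obtain ⟨x, y, hxy⟩ := CharP.sq_add_sq F (ringChar F) (-1)
  push_cast at hxy
  generalize (x : F) = X at hxy
  generalize (y : F) = Y at hxy
  obtain ⟨U, hU⟩ : ∃ U : SL(2, F), (U : Matrix (Fin 2) (Fin 2) F) = !![e, e; -e, e] :=
    ⟨⟨!![e, e; -e, e], by rw [Matrix.det_fin_two_of]; linear_combination he2⟩, rfl⟩
  obtain ⟨W, hW⟩ : ∃ W : SL(2, F), (W : Matrix (Fin 2) (Fin 2) F) = !![X, Y; Y, -X] :=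
    ⟨⟨!![X, Y; Y, -X], by rw [Matrix.det_fin_two_of]; linear_combination -hxy⟩, rfl⟩
  let π := QuotientGroup.mk' (Subgroup.center SL(2, F))
  have key : ∀ A B : SL(2, F), π A = π B → ∃ r : F, r ≠ 0 ∧
      ∀ i k, (B : Matrix (Fin 2) (Fin 2) F) i k = r * (A : Matrix (Fin 2) (Fin 2) F) i k := by
    intro A B h
    obtain ⟨r, hr2, hr⟩ := Matrix.SpecialLinearGroup.mem_center_iff.mp (QuotientGroup.eq.mp h)
    refine ⟨r, fun e0 => ?_, fun i k => ?_⟩
    · rw [e0, Fintype.card_fin, zero_pow two_ne_zero] at hr2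
      exact zero_ne_one hr2
    · have hB : (B : Matrix (Fin 2) (Fin 2) F) =
          (A : Matrix (Fin 2) (Fin 2) F) * Matrix.scalar (Fin 2) r := by
        rw [hr, ← Matrix.SpecialLinearGroup.coe_mul, mul_inv_cancel_left]
      rw [hB]
      simp [Matrix.scalar_apply, Matrix.mul_diagonal, mul_comm]
  refine ⟨π U, π W, ?_, ?_, ?_⟩
  · intro h
    rw [← map_pow] at h
    obtain ⟨r, -, hr⟩ := key _ _ (h.trans (map_one π).symm)
    have h01 := hr 0 1
    simp [hU, Matrix.SpecialLinearGroup.coe_pow, pow_two, Matrix.mul_apply, Fin.sum_univ_two] at h01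
    rcases h01 with h01 | h01
    · have := hr 0 0
      simp [hU, h01, Matrix.SpecialLinearGroup.coe_pow, pow_two, Matrix.mul_apply,
        Fin.sum_univ_two] at this
    · exact one_ne_zero (α := F) (by linear_combination -he2 + h01)
  · show π W * π U ^ 2 = π U ^ 2 * π W
    rw [← map_pow, ← map_mul, ← map_mul]
    have hm : W * U ^ 2 = (-1) * (U ^ 2 * W) := by
      ext i k
      fin_cases i <;> fin_cases k <;>
        simp [hU, hW, Matrix.SpecialLinearGroup.coe_pow, pow_two, Matrix.mul_apply, Fin.sum_univ_two]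
        <;> ring
    rw [hm, map_mul]
    have h1 : π (-1) = 1 := (QuotientGroup.eq_one_iff _).mpr
      (Matrix.SpecialLinearGroup.mem_center_iff.mpr ⟨-1, by simp, by
        ext i k; fin_cases i <;> fin_cases k <;> simp⟩)
    rw [h1, one_mul]
  · intro h
    have h' : π (W * U) = π (U * W) := by rw [map_mul, map_mul]; exact h.eq
    obtain ⟨r, hr0, hr⟩ := key _ _ h'
    have h00 := hr 0 0
    have h01 := hr 0 1
    simp [hU, hW, Matrix.mul_apply, Fin.sum_univ_two] at h00 h01
    have a1 : X + Y = r * (X - Y) := mul_left_cancel₀ he0 (by linear_combination h00)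
    have a2 : Y - X = r * (X + Y) := mul_left_cancel₀ he0 (by linear_combination h01)
    have hsum : (X + Y) ^ 2 + (X - Y) ^ 2 = 0 := by linear_combination (X + Y) * a1 + (Y - X) * a2
    have : (2 : F) * (-1) = 0 := by linear_combination hsum - 2 * hxy
    simp [hodd] at this

theorem psl_nine_false {F : Type} [Field F] [Fintype F]
    (h : Fintype.card F % 8 ≠ 3 ∧ Fintype.card F % 8 ≠ 5) (hq : Fintype.card F % 2 = 1)
    (f : ProjectiveSpecialLinearGroup (Fin 2) F →* G) (hf : Function.Injective f) : False := by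
  have hodd : (2 : F) ≠ 0 := fun e0 => by
    have hc : CharP F 2 := CharTwo.of_one_ne_zero_of_two_eq_zero one_ne_zero e0
    have := FiniteField.even_card_of_char_two (F := F) (ringChar.eq F 2)
    omega
  obtain ⟨u, w, hu, hw, hne⟩ := psl_witness (FiniteField.isSquare_two_iff.mpr h) hodd
  exact hF.false_of_witness f hf u w 2 hu hw hne

theorem classify (hns : ¬ Group.IsSolvable G) : ∃ a : ℕ, 0 < a ∧
    Nonempty (G ≃* ProjectiveSpecialLinearGroup (Fin 2) (GaloisField 2 a)) := by
  haveI := Fact.mk Nat.prime_two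
  rcases Cfsg.Agent.S4351.result hns hF.isCN with ⟨hS, hna⟩ | ⟨N, -, -, F, iF, fF, h9, ⟨e⟩⟩ |
    ⟨N, hN, hN1, hN2, -⟩
  · haveI := hS
    have hne : ∃ u v : G, u * v ≠ v * u := by
      by_contra hall
      push Not at hall
      exact hna ⟨⟨hall⟩⟩
    rcases CfsgLib.CIT.classification_iso hne (CfsgLib.CNSimple.cit hne hF.isCN) with
      ⟨F, iF, fF, hq, ⟨e⟩⟩ | ⟨F, iF, fF, h4, ⟨e⟩⟩ | hSz
    · letI := iF
      letI := fF
      have hgal : ∀ n : ℕ, 0 < n → Fintype.card F = 2 ^ n → ∃ a : ℕ, 0 < a ∧
          Nonempty (G ≃* ProjectiveSpecialLinearGroup (Fin 2) (GaloisField 2 a)) := by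
        intro n hn hc
        obtain ⟨e'⟩ := CfsgLib.Invol.SelfNorm.psl_equiv_of_card (K := F) (F := GaloisField 2 n) (by
          rw [Nat.card_eq_fintype_card, hc, GaloisField.card 2 n (by omega)])
        exact ⟨n, hn, ⟨e.trans e'⟩⟩
      have hcard := CfsgLib.SL2.card_PSL (F := F)
      rw [← Nat.card_congr e.toEquiv, Nat.card_eq_fintype_card (α := F)] at hcard
      by_cases h5 : Fintype.card F = 5
      · have h60 : Nat.card G = 60 := by rw [h5] at hcard; norm_num at hcard ⊢; omega
        obtain ⟨e1⟩ := Cfsg.Agent.S0494.result h60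
        let K := GaloisField 2 2
        letI : Fintype K := Fintype.ofFinite K
        have hK : Fintype.card K = 4 := by
          rw [← Nat.card_eq_fintype_card, GaloisField.card 2 2 two_ne_zero]; norm_num
        have hcK := CfsgLib.SL2.card_PSL (F := K)
        rw [Nat.card_eq_fintype_card (α := K), hK] at hcK
        haveI : IsSimpleGroup (ProjectiveSpecialLinearGroup (Fin 2) K) :=
          CfsgLib.Classical.isSimpleGroup_PSL (Or.inr (by
            classical
            obtain ⟨x, -, hx⟩ := Finset.exists_mem_notMem_of_card_lt_card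
              (s := ({0, 1, -1} : Finset K)) (t := Finset.univ)
              (lt_of_le_of_lt Finset.card_le_three (by rw [Finset.card_univ, hK]; norm_num))
            simp at hx
            exact ⟨x, hx.1, fun h => (sq_eq_one_iff.mp h).elim hx.2.1 hx.2.2⟩))
        obtain ⟨e2⟩ := Cfsg.Agent.S0494.result (G := ProjectiveSpecialLinearGroup (Fin 2) K)
          (by norm_num at hcK ⊢; omega)
        exact ⟨2, two_pos, ⟨e1.trans e2.symm⟩⟩
      by_cases h3 : Fintype.card F = 3
      · exact absurd (Cfsg.Agent.S0144.result 2 3 2 1 Nat.prime_two Nat.prime_three (by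
          rw [h3] at hcard; norm_num at hcard ⊢; omega)) hns
      have hpos : 1 < Fintype.card F := Fintype.one_lt_card
      rcases hq with h9 | ⟨n, hn⟩ | ⟨hp, k, hk⟩
      · exact (hF.psl_nine_false (by omega) (by omega) e.symm.toMonoidHom e.symm.injective).elim
      · exact hgal n (Nat.pos_of_ne_zero fun e0 => by rw [e0, pow_zero] at hn; omega) hn
      · rcases hp.eq_two_or_odd with h2 | h2
        · exact hgal 1 one_pos (by rw [h2, pow_one])
        · have hk3 : 3 ≤ k := by
            by_contra hk3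
            interval_cases k <;> norm_num at hk <;> omega
          have h8 : 2 ^ k % 8 = 0 :=
            Nat.mod_eq_zero_of_dvd (dvd_trans (by norm_num) (pow_dvd_pow 2 hk3))
          exact (hF.psl_nine_false (by omega) h2 e.symm.toMonoidHom e.symm.injective).elim
    · letI := iF
      letI := fF
      have h2 := CfsgLib.Classical.PSLThreeFour.two_eq_zero h4
      obtain ⟨J, hJ⟩ : ∃ J : SL(3, F),
          (J : Matrix (Fin 3) (Fin 3) F) = !![1, 1, 0; 0, 1, 1; 0, 0, 1] :=
        ⟨⟨!![1, 1, 0; 0, 1, 1; 0, 0, 1], by rw [Matrix.det_fin_three]; simp⟩, rfl⟩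
      obtain ⟨T, hT⟩ : ∃ T : SL(3, F),
          (T : Matrix (Fin 3) (Fin 3) F) = !![1, 1, 0; 0, 1, 0; 0, 0, 1] :=
        ⟨⟨!![1, 1, 0; 0, 1, 0; 0, 0, 1], by rw [Matrix.det_fin_three]; simp⟩, rfl⟩
      let π := QuotientGroup.mk' (Subgroup.center SL(3, F))
      refine (hF.false_of_witness e.symm.toMonoidHom e.symm.injective (π J) (π T) 2 ?_ ?_ ?_).elim
      · intro he
        rw [← map_pow] at he
        obtain ⟨r, -, hr⟩ := Matrix.SpecialLinearGroup.mem_center_iff.1
          ((QuotientGroup.eq_one_iff _).1 he)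
        rw [Matrix.SpecialLinearGroup.coe_pow, pow_two] at hr
        have h02 := congrFun (congrFun hr 0) 2
        simp [hJ, Matrix.mul_apply, Fin.sum_univ_three] at h02
      · show π T * π J ^ 2 = π J ^ 2 * π T
        rw [← map_pow, ← map_mul, ← map_mul]
        congr 1
        ext i k
        fin_cases i <;> fin_cases k <;>
          simp [hJ, hT, Matrix.SpecialLinearGroup.coe_pow, pow_two, Matrix.mul_apply,
            Fin.sum_univ_three] <;>
          first
            | linear_combination h2
            | linear_combination -h2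
            | linear_combination 2 * h2
            | linear_combination -(2 * h2)
            | linear_combination (0 : F) * h2
            | linear_combination (2 + 2 : F) * h2
      · intro hc
        have hc' : π (T * J) = π (J * T) := by rw [map_mul, map_mul]; exact hc.eq
        obtain ⟨r, -, hr⟩ := Matrix.SpecialLinearGroup.mem_center_iff.1 (QuotientGroup.eq.mp hc')
        have hm : ((J * T : SL(3, F)) : Matrix (Fin 3) (Fin 3) F) =
            ((T * J : SL(3, F)) : Matrix (Fin 3) (Fin 3) F) * Matrix.scalar (Fin 3) r := by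
          rw [hr, ← Matrix.SpecialLinearGroup.coe_mul, mul_inv_cancel_left]
        have h02 := congrFun (congrFun hm 0) 2
        have h00 := congrFun (congrFun hm 0) 0
        simp [hJ, hT, Matrix.mul_apply, Fin.sum_univ_three, Matrix.scalar_apply,
          Matrix.mul_diagonal] at h02 h00
        rw [← h00] at h02
        simp at h02
    · obtain ⟨F, iF, fF, m, hm, hFc, ⟨e⟩⟩ := hSz
      haveI := CfsgLib.Suzuki.charP_two_of_card hFc
      haveI : CfsgLib.Suzuki.Param F m := ⟨hm, hFc⟩
      let e' : CfsgLib.Suzuki.Gp F m ≃* G := (CfsgLib.Suzuki.lieEquiv F m).trans e.symm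
      obtain ⟨α, hα⟩ : ∃ α : F, α ≠ 0 ∧ α ≠ 1 := by
        have : 2 < Fintype.card F := by
          rw [hFc]
          calc 2 < 2 ^ 3 := by norm_num
            _ ≤ _ := Nat.pow_le_pow_right two_pos (by omega)
        classical
        obtain ⟨α, -, h⟩ := Finset.exists_mem_notMem_of_card_lt_card (s := ({0, 1} : Finset F))
          (t := Finset.univ) (lt_of_le_of_lt (Finset.card_le_two) (by simpa using this))
        exact ⟨α, by simp at h; exact h.1, by simp at h; exact h.2⟩
      refine (hF.false_of_witness e'.toMonoidHom e'.injective (CfsgLib.Suzuki.gT (1 : F) 0)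
        (CfsgLib.Suzuki.gT α 0) 2 ?_ ?_ ?_).elim
      · rw [pow_two, CfsgLib.Suzuki.gT_sq, map_one, one_mul]
        exact CfsgLib.Suzuki.gT_ne_one (Or.inr one_ne_zero)
      · rw [pow_two, CfsgLib.Suzuki.gT_sq, map_one, one_mul]
        show _ * _ = _ * _
        rw [CfsgLib.Suzuki.gT_mul, CfsgLib.Suzuki.gT_mul, map_zero]
        congr 1 <;> ring
      · intro hc
        have := hc.eq
        rw [CfsgLib.Suzuki.gT_mul, CfsgLib.Suzuki.gT_mul, map_one] at this
        have h2 := (CfsgLib.Suzuki.gT_inj this).2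
        simp at h2
        rcases CfsgLib.Suzuki.sg_fix hFc h2 with h | h
        · exact hα.1 h
        · exact hα.2 h
  · letI := iF
    letI := fF
    exact (hF.psl_nine_false (by omega) (by omega) (N.subtype.comp e.symm.toMonoidHom)
      (N.subtype_injective.comp e.symm.injective)).elim
  · haveI := hN
    exfalso
    obtain ⟨n, hn, hn1⟩ := (Subgroup.bot_or_exists_ne_one N).resolve_left hN1
    set V := Subgroup.centralizer (N : Set G)
    have hle : V ≤ C n := fun v hv => mem_C.mpr (Subgroup.mem_centralizer_iff.mp hv n hn).symm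
    haveI : Group.IsSolvable V := by
      haveI : Group.IsNilpotent (C n) := hF.isCN n hn1
      exact Group.isSolvable_of_isSolvable_injective (Subgroup.inclusion_injective hle)
    haveI : Group.IsSolvable (G ⧸ V) := by
      refine Cfsg.Agent.S0205.result (Nat.odd_iff.mpr (Nat.two_dvd_ne_zero.mp ?_))
      rw [← Subgroup.index_eq_card]
      obtain ⟨P⟩ : Nonempty (Sylow 2 G) := inferInstance
      have hNP : N ≤ (P : Subgroup G) :=
        le_sup_left.trans (P.is_maximal' (hN2.to_sup_of_normal_left P.2) le_sup_right).le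
      exact fun hd => P.not_dvd_index (hd.trans (Subgroup.index_dvd_of_le fun y hy =>
        Subgroup.mem_centralizer_iff.mpr fun z hz => hF.sylow_two_comm P z (hNP hz) y hy))
    exact hns (Group.isSolvable_of_ker_le_range V.subtype (QuotientGroup.mk' V)
      (by rw [QuotientGroup.ker_mk', Subgroup.range_subtype]))

end Flat

end CfsgLib.ClassSizesFour
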