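import Cfsg.Agent.Lib.ClassSizesFour.Basic

/-!
Class sizes `1, a, b, c` with `a ∣ b` and trivial centre: generalities, and the case `c ∣ b`.
-/

set_option autoImplicit false
set_option linter.unusedSectionVars false
set_option linter.style.haveILetI false

namespace CfsgLib.ClassSizesFour

open CfsgLib.ClassSizesThree (C mem_C self_mem_C mem_C_symm C_le_of_mem_zpowers C_mul IsPEl
  isPEl_of_isPGroup C_conj)

variable (G : Type*) [Group G] [Finite G]

/-- The non-trivial class sizes are `a, b, c` with `a ∣ b` properly, and `b ≠ a * c`. -/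
structure Triple (a b c : ℕ) : Prop where
  one : ∀ g : G, (C g).index = 1 → g = 1
  size : ∀ g : G, g ≠ 1 → (C g).index = a ∨ (C g).index = b ∨ (C g).index = c
  exa : ∃ g : G, (C g).index = a
  exb : ∃ g : G, (C g).index = b
  exc : ∃ g : G, (C g).index = c
  dvd : a ∣ b
  lt : a < b
  bc : ¬ b ∣ c
  ac : ¬ a ∣ c
  ca : ¬ c ∣ a
  cop : a.Coprime c
  ha : 1 < a
  hc : 1 < c
  hne : b ≠ a * c

variable {G} {a b c : ℕ}

namespace Triple

variable (T : Triple G a b c)
include T

theorem ba : ¬ b ∣ a := fun h => not_lt.mpr (Nat.le_of_dvd (by linarith [T.ha]) h) T.lt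

theorem ne_one {g : G} {n : ℕ} (hn : 1 < n) (h : (C g).index = n) : g ≠ 1 := by
  rintro rfl
  rw [index_C_eq_one_iff.mpr (one_mem _)] at h
  omega

theorem hb : 1 < b := lt_trans T.ha T.lt

theorem symm (hcb : c ∣ b) : Triple G c b a where
  one := T.one
  size g hg := by rcases T.size g hg with e | e | e <;> simp [e]
  exa := T.exc
  exb := T.exb
  exc := T.exa
  dvd := hcb
  lt := lt_of_le_of_ne (Nat.le_of_dvd (by linarith [T.hb]) hcb) fun e => T.bc (e ▸ dvd_rfl)
  bc := T.ba
  ac := T.ca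
  ca := T.ac
  cop := T.cop.symm
  ha := T.hc
  hc := T.ha
  hne := by rw [mul_comm]; exact T.hne

theorem mul_size {p q : ℕ} (hp : p.Prime) (hq : q.Prime) (hne : p ≠ q) {x y : G}
    (hx : IsPEl p x) (hy : IsPEl q y) (hx1 : x ≠ 1) (hc : Commute x y) :
    C (x * y) = C x ⊓ C y ∧ (C x).index ∣ (C (x * y)).index ∧
      (C y).index ∣ (C (x * y)).index ∧
      ((C (x * y)).index = a ∨ (C (x * y)).index = b ∨ (C (x * y)).index = c) := by
  have ho := coprime_of_ne hp hq hne hx hy
  exact ⟨C_mul hc ho, (index_C_mul hc ho).1, (index_C_mul hc ho).2,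
    T.size _ (mul_ne_one_of_coprime ho hx1)⟩

/-- Prime power elements of coprime orders with class sizes `a`, `c` do not commute. -/
theorem nc {p q : ℕ} (hp : p.Prime) (hq : q.Prime) (hne : p ≠ q) {x z : G}
    (hx : IsPEl p x) (hz : IsPEl q z) (hxa : (C x).index = a) (hzc : (C z).index = c) :
    ¬ Commute x z := by
  intro hc
  obtain ⟨he, h1, h2, hs⟩ := T.mul_size hp hq hne hx hz (T.ne_one T.ha hxa) hc
  rw [hxa] at h1
  rw [hzc] at h2
  have hd : a * c ∣ (C (x * z)).index := T.cop.mul_dvd_of_dvd_of_dvd h1 h2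
  have hle : (C (x * z)).index ≤ a * c := by
    rw [he, ← hxa, ← hzc]
    exact Subgroup.index_inf_le
  have heq : (C (x * z)).index = a * c :=
    le_antisymm hle (Nat.le_of_dvd (Nat.pos_of_ne_zero Subgroup.index_ne_zero_of_finite) hd)
  rw [heq] at hs
  rcases hs with e | e | e
  · exact T.ca (e ▸ dvd_mul_left c a)
  · exact T.hne e.symm
  · exact T.ac (e ▸ dvd_mul_right a c)

/-- A centraliser of size `b` lies in those of commuting coprime elements of size `a` or `b`. -/
theorem le_of_b {p q : ℕ} (hp : p.Prime) (hq : q.Prime) (hne : p ≠ q) {y x : G}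
    (hy : IsPEl p y) (hx : IsPEl q x) (hyb : (C y).index = b) (hc : Commute y x) : C y ≤ C x := by
  obtain ⟨he, h1, -, hs⟩ := T.mul_size hp hq hne hy hx (T.ne_one T.hb hyb) hc
  rw [hyb] at h1
  rcases hs with e | e | e
  · exact absurd (e ▸ h1) T.ba
  · rw [← eq_of_le_of_index (he.le.trans inf_le_left) (e.trans hyb.symm), he]
    exact inf_le_right
  · exact absurd (e ▸ h1) T.bc

theorem exists_a : ∃ (p : ℕ) (x : G), p.Prime ∧ IsPEl p x ∧ (C x).index = a := by
  obtain ⟨g, hg⟩ := T.exa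
  obtain ⟨p, y, hp, hy, hyp, hy1⟩ := exists_part (T.ne_one T.ha hg)
  have hd := index_C_dvd_of_zpowers hy
  rw [hg] at hd
  refine ⟨p, y, hp, hyp, (T.size y hy1).resolve_right ?_⟩
  rintro (e | e) <;> rw [e] at hd
  · exact T.ba hd
  · exact T.ca hd

theorem exists_c : ∃ (p : ℕ) (x : G), p.Prime ∧ IsPEl p x ∧ (C x).index = c := by
  obtain ⟨g, hg⟩ := T.exc
  obtain ⟨p, y, hp, hy, hyp, hy1⟩ := exists_part (T.ne_one T.hc hg)
  have hd := index_C_dvd_of_zpowers hy
  rw [hg] at hd
  refine ⟨p, y, hp, hyp, ?_⟩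
  rcases T.size y hy1 with e | e | e <;> rw [e] at hd
  · exact absurd hd T.ac
  · exact absurd hd T.bc
  · exact e

theorem dvd_card_a {p : ℕ} (h : p ∣ a) : p ∣ Nat.card G := by
  obtain ⟨g, hg⟩ := T.exa
  exact h.trans (hg ▸ Subgroup.index_dvd_card _)

theorem dvd_card_c {p : ℕ} (h : p ∣ c) : p ∣ Nat.card G := by
  obtain ⟨g, hg⟩ := T.exc
  exact h.trans (hg ▸ Subgroup.index_dvd_card _)

theorem not_both {p : ℕ} (hp : p.Prime) (ha : p ∣ a) (hc : p ∣ c) : False :=
  hp.ne_one (Nat.dvd_one.mp (T.cop ▸ Nat.dvd_gcd ha hc))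

/-- Every prime divisor of the order divides some class size. -/
theorem exists_dvd_index {p : ℕ} [Fact p.Prime] (hd : p ∣ Nat.card G) :
    ∃ g : G, g ≠ 1 ∧ p ∣ (C g).index := by
  by_contra hcon
  push Not at hcon
  obtain ⟨P⟩ : Nonempty (Sylow p G) := inferInstance
  have h := sylow_le_center P fun g => exists_sylow_le (by
    by_cases hg : g = 1
    · rw [index_C_eq_one_iff.mpr (hg ▸ one_mem _)]
      exact (Fact.out : p.Prime).not_dvd_one
    · exact hcon g hg)
  obtain ⟨u, hu1, -, huP, -, -⟩ := exists_center_sylow hd P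
  exact hu1 (T.one u (index_C_eq_one_iff.mpr (h huP)))

/-- A central element of a Sylow subgroup for a prime dividing `a` has class size `c`. -/
theorem index_center_a {p : ℕ} (hp : p.Prime) (ha : p ∣ a) {u : G} (hu : u ≠ 1)
    (hn : ¬ p ∣ (C u).index) : (C u).index = c := by
  rcases T.size u hu with e | e | e
  · exact absurd (e ▸ ha) hn
  · exact absurd (e ▸ ha.trans T.dvd) hn
  · exact e

theorem card_eq (hd : ∀ p : ℕ, p.Prime → p ∣ Nat.card G → p ∣ a ∨ p ∣ c)
    (ha : ∀ p : ℕ, p.Prime → p ∣ a → a.factorization p = (Nat.card G).factorization p)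
    (hc : ∀ p : ℕ, p.Prime → p ∣ c → c.factorization p = (Nat.card G).factorization p) :
    a * c = Nat.card G := by
  have hane : a ≠ 0 := by linarith [T.ha]
  have hcne : c ≠ 0 := by linarith [T.hc]
  apply Nat.eq_of_factorization_eq (Nat.mul_ne_zero hane hcne) Nat.card_pos.ne'
  intro p
  rw [Nat.factorization_mul hane hcne, Finsupp.add_apply]
  by_cases hp : p.Prime
  · by_cases hpa : p ∣ a
    · rw [ha p hp hpa, Nat.factorization_eq_zero_of_not_dvd fun h => T.not_both hp hpa h, add_zero]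
    · by_cases hpc : p ∣ c
      · rw [hc p hp hpc, Nat.factorization_eq_zero_of_not_dvd hpa, zero_add]
      · rw [Nat.factorization_eq_zero_of_not_dvd hpa, Nat.factorization_eq_zero_of_not_dvd hpc,
          Nat.factorization_eq_zero_of_not_dvd fun h => (hd p hp h).elim hpa hpc]
  · rw [Nat.factorization_eq_zero_of_not_prime _ hp, Nat.factorization_eq_zero_of_not_prime _ hp,
      Nat.factorization_eq_zero_of_not_prime _ hp]

section Two

variable (hcb : c ∣ b)
include hcb

theorem cover_two {p : ℕ} (hp : p.Prime) (hd : p ∣ Nat.card G) : p ∣ a ∨ p ∣ c := by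
  by_contra hno
  push Not at hno
  haveI := Fact.mk hp
  obtain ⟨g, hg1, hg⟩ := T.exists_dvd_index hd
  have hpb : p ∣ b := by
    rcases T.size g hg1 with e | e | e <;> rw [e] at hg
    · exact absurd hg hno.1
    · exact hg
    · exact absurd hg hno.2
  obtain ⟨P⟩ : Nonempty (Sylow p G) := inferInstance
  obtain ⟨u, hu1, hup, huP, hPu, hun⟩ := exists_center_sylow hd P
  suffices key : ∀ (a' c' : ℕ), Triple G a' b c' → c' ∣ b → ¬ p ∣ c' → ¬ p ∣ a' →
      (C u).index = a' → False by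
    rcases T.size u hu1 with e | e | e
    · exact key a c T hcb hno.2 hno.1 e
    · exact hun (e ▸ hpb)
    · exact key c a (T.symm hcb) T.dvd hno.1 hno.2 e
  intro a' c' T' _ hpc' _ hua
  obtain ⟨r, hr, hra⟩ := Nat.exists_prime_and_dvd (show a' ≠ 1 by linarith [T'.ha])
  haveI := Fact.mk hr
  have hall : ∀ (q : ℕ) (z : G), q.Prime → IsPEl q z → (C z).index = c' → q = p := by
    intro q z hq hz hzc
    by_contra hqp
    obtain ⟨P', hP'⟩ := exists_sylow_le (p := p) (H := C z) (hzc ▸ hpc')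
    obtain ⟨g, hgP, -⟩ := exists_conj_central hup hun P'
    exact T'.nc hp hq (Ne.symm hqp) (hup.conj g) hz ((index_C_conj g u).trans hua) hzc
      (mem_C.mp (hP' hgP))
  obtain ⟨R⟩ : Nonempty (Sylow r G) := inferInstance
  obtain ⟨v, hv1, hvr, -, -, hvn⟩ := exists_center_sylow (T'.dvd_card_a hra) R
  have := hall r v hr hvr (T'.index_center_a hr hra hv1 hvn)
  subst this
  rw [hua] at hun
  exact hun hra

/-- For `r ∣ c`, no `r`-element has class size `c`. -/
theorem index_ne_two {r : ℕ} (hr : r.Prime) (hrc : r ∣ c) {w : G} (hw : IsPEl r w) :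
    (C w).index ≠ c := by
  intro hwc
  haveI := Fact.mk hr
  obtain ⟨q, hq, hqa⟩ := Nat.exists_prime_and_dvd (show a ≠ 1 by linarith [T.ha])
  haveI := Fact.mk hq
  have hqr : q ≠ r := fun e => T.not_both hq hqa (e ▸ hrc)
  obtain ⟨Q, hQ⟩ := exists_sylow_le (p := q) (H := C w) (hwc ▸ fun h => T.not_both hq hqa h)
  obtain ⟨z, hz1, hzq, hzQ, hQz, hzn⟩ := exists_center_sylow (T.dvd_card_a hqa) Q
  have hzc := T.index_center_a hq hqa hz1 hzn
  obtain ⟨he, hd1, -, hs⟩ :=
    T.mul_size hr hq hqr.symm hw hzq (T.ne_one T.hc hwc) (mem_C.mp (hQ hzQ)).symm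
  rw [hwc] at hd1
  rcases hs with e | e | e
  · exact T.ca (e ▸ hd1)
  · have hle : (Q : Subgroup G) ≤ C (w * z) := he ▸ le_inf hQ hQz
    exact Q.not_dvd_index ((hqa.trans (e ▸ T.dvd)).trans (Subgroup.index_dvd_of_le hle))
  · obtain ⟨R, hwR⟩ := exists_sylow_mem hw
    obtain ⟨x, hx1, hxr, -, hRx, hxn⟩ := exists_center_sylow (T.dvd_card_c hrc) R
    have hxa := (T.symm hcb).index_center_a hr hrc hx1 hxn
    have heq : C w = C z := by
      rw [← eq_of_le_of_index (he.le.trans inf_le_left) (e.trans hwc.symm),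
        ← eq_of_le_of_index (he.le.trans inf_le_right) (e.trans hzc.symm)]
    exact T.nc hr hq hqr.symm hxr hzq hxa hzc (mem_C.mp (heq ▸ mem_C_symm (hRx hwR)))

theorem factorization_two {r : ℕ} (hr : r.Prime) (hrc : r ∣ c) :
    c.factorization r = (Nat.card G).factorization r := by
  haveI := Fact.mk hr
  obtain ⟨q, z, hq, hz, hzc⟩ := T.exists_c
  have hqc : ¬ q ∣ c := fun h => T.index_ne_two hcb hq h hz hzc
  have hqr : q ≠ r := fun e => hqc (e ▸ hrc)
  rw [← hzc]
  refine factorization_index_of_not_dvd (not_dvd_card fun w hw hwr => ?_)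
  by_contra hw1
  rcases T.size w hw1 with e | e | e
  · exact T.nc hr hq hqr.symm hwr hz e hzc (mem_C.mp hw)
  · obtain ⟨R, hwR⟩ := exists_sylow_mem hwr
    obtain ⟨x, hx1, hxr, -, hRx, hxn⟩ := exists_center_sylow (T.dvd_card_c hrc) R
    exact T.nc hr hq hqr.symm hxr hz ((T.symm hcb).index_center_a hr hrc hx1 hxn) hzc
      (mem_C.mp (T.le_of_b hr hq hqr.symm hwr hz e (mem_C.mp hw) (mem_C_symm (hRx hwR))))
  · exact T.index_ne_two hcb hr hrc hwr e

theorem false_of_two : False := by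
  have hcard := T.card_eq (fun p hp hd => T.cover_two hcb hp hd)
    (fun p hp ha => (T.symm hcb).factorization_two T.dvd hp ha)
    (fun p hp hc => T.factorization_two hcb hp hc)
  obtain ⟨g, hg⟩ := T.exb
  have hd : Nat.card G ∣ b := hcard ▸ T.cop.mul_dvd_of_dvd_of_dvd T.dvd hcb
  have h1 := (C g).card_mul_index
  have h2 : 2 ≤ Nat.card (C g) := by
    by_contra hlt
    have : Nat.card (C g) = 1 := by have := Nat.card_pos (α := C g); omega
    exact T.ne_one T.hb hg (Subgroup.mem_bot.mp (Subgroup.eq_bot_of_card_eq _ this ▸ self_mem_C g))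
  rw [hg] at h1
  have := Nat.le_of_dvd (by linarith [T.hb]) hd
  nlinarith [T.hb]

end Two

end Triple

end CfsgLib.ClassSizesFour
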